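/-
Basic theory of (B,N)-pairs in the sense of `Cfsg.BNPair`: Bruhat decomposition, length function,
exchange condition, parabolic subgroups.
-/
import Cfsg.Prelude.Def_LieExceptional

set_option autoImplicit false

namespace Cfsg.Agent.BN

variable {G : Type*} [Group G] (P : Cfsg.BNPair G)

/-- `B ⊓ N` as a subgroup of `N`. -/
abbrev T : Subgroup P.N := (P.B ⊓ P.N).subgroupOf P.N

instance instNormalT : (T P).Normal := by
  refine ⟨fun t ht n => ?_⟩
  simp only [T, Subgroup.mem_subgroupOf, Subgroup.mem_inf, Subgroup.coe_mul, Subgroup.coe_inv] at ht ⊢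
  exact ⟨P.conj_mem n n.2 t ⟨ht.1, ht.2⟩, P.N.mul_mem (P.N.mul_mem n.2 ht.2) (P.N.inv_mem n.2)⟩

/-- The Weyl group `N / (B ⊓ N)`. -/
abbrev W : Type _ := P.N ⧸ T P

/-- The class of an element of `N`. -/
abbrev cl (n : P.N) : W P := QuotientGroup.mk n

theorem cl_eq_iff (n n' : P.N) : cl P n = cl P n' ↔ ((n : G))⁻¹ * n' ∈ P.B := by
  rw [QuotientGroup.eq, Subgroup.mem_subgroupOf, Subgroup.mem_inf]
  simp only [Subgroup.coe_mul, Subgroup.coe_inv]
  exact ⟨fun h => h.1, fun h => ⟨h, P.N.mul_mem (P.N.inv_mem n.2) n'.2⟩⟩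

theorem cl_eq_one_iff (n : P.N) : cl P n = 1 ↔ (n : G) ∈ P.B := by
  rw [QuotientGroup.eq_one_iff, Subgroup.mem_subgroupOf, Subgroup.mem_inf]
  exact ⟨fun h => h.1, fun h => ⟨h, n.2⟩⟩

/-- A distinguished generator of `W`. -/
def g (s : P.S) : W P := cl P ⟨s, P.subset s.2⟩

@[simp] theorem g_mul_self (s : P.S) : g P s * g P s = 1 := by
  rw [g, cl, ← QuotientGroup.mk_mul]
  exact (cl_eq_one_iff P _).2 (P.sq_mem s s.2)

@[simp] theorem g_inv (s : P.S) : (g P s)⁻¹ = g P s :=
  inv_eq_of_mul_eq_one_right (g_mul_self P s)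

@[simp] theorem g_mul_cancel (s : P.S) (w : W P) : g P s * (g P s * w) = w := by
  rw [← mul_assoc, g_mul_self, one_mul]

@[simp] theorem mul_g_cancel (s : P.S) (w : W P) : w * g P s * g P s = w := by
  rw [mul_assoc, g_mul_self, mul_one]

theorem s_not_mem (s : P.S) : (s : G) ∉ P.B := by
  intro h
  apply P.conj_ne s s.2
  apply Set.Subset.antisymm
  · rintro _ ⟨b, hb, rfl⟩
    exact P.B.mul_mem (P.B.mul_mem h hb) h
  · intro b hb
    refine ⟨(s : G)⁻¹ * b * (s : G)⁻¹, P.B.mul_mem (P.B.mul_mem (P.B.inv_mem h) hb) (P.B.inv_mem h), ?_⟩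
    group

theorem g_ne_one (s : P.S) : g P s ≠ 1 := fun h => s_not_mem P s ((cl_eq_one_iff P _).1 h)

theorem g_injective : Function.Injective (g P) := by
  intro s t h
  exact Subtype.ext (P.inj s s.2 t t.2 ((cl_eq_iff P _ _).1 h))

theorem exists_conj_not_mem (s : P.S) : ∃ b ∈ P.B, (s : G) * b * s ∉ P.B := by
  by_contra hc
  simp only [not_exists, not_and, not_not] at hc
  apply P.conj_ne s s.2
  apply Set.Subset.antisymm
  · rintro _ ⟨b, hb, rfl⟩
    exact hc b hb
  · intro b hb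
    have h2 : (s : G) * s ∈ P.B := P.sq_mem s s.2
    refine ⟨((s : G) * s)⁻¹ * ((s : G) * b * s) * ((s : G) * s)⁻¹,
      P.B.mul_mem (P.B.mul_mem (P.B.inv_mem h2) (hc b hb)) (P.B.inv_mem h2), ?_⟩
    group

/-! ### Double cosets indexed by `W` -/

/-- The double coset `B w B`. -/
def C (w : W P) : Set G :=
  {x | ∃ n : P.N, cl P n = w ∧ ∃ b ∈ P.B, ∃ b' ∈ P.B, x = b * n * b'}

theorem mem_C_coe (n : P.N) : (n : G) ∈ C P (cl P n) :=
  ⟨n, rfl, 1, P.B.one_mem, 1, P.B.one_mem, by group⟩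

theorem g_mem_C (s : P.S) : (s : G) ∈ C P (g P s) := mem_C_coe P ⟨s, P.subset s.2⟩

theorem mul_mem_C_left {w : W P} {b x : G} (hb : b ∈ P.B) (hx : x ∈ C P w) : b * x ∈ C P w := by
  obtain ⟨n, hn, c, hc, c', hc', rfl⟩ := hx
  exact ⟨n, hn, b * c, P.B.mul_mem hb hc, c', hc', by group⟩

theorem mul_mem_C_right {w : W P} {b x : G} (hb : b ∈ P.B) (hx : x ∈ C P w) : x * b ∈ C P w := by
  obtain ⟨n, hn, c, hc, c', hc', rfl⟩ := hx
  exact ⟨n, hn, c, hc, c' * b, P.B.mul_mem hc' hb, by group⟩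

theorem inv_mem_C {w : W P} {x : G} (hx : x ∈ C P w) : x⁻¹ ∈ C P w⁻¹ := by
  obtain ⟨n, hn, c, hc, c', hc', rfl⟩ := hx
  refine ⟨n⁻¹, by rw [← hn]; rfl, c'⁻¹, P.B.inv_mem hc', c⁻¹, P.B.inv_mem hc, ?_⟩
  simp only [Subgroup.coe_inv]
  group

theorem mem_C_one_iff {x : G} : x ∈ C P 1 ↔ x ∈ P.B := by
  constructor
  · rintro ⟨n, hn, c, hc, c', hc', rfl⟩
    exact P.B.mul_mem (P.B.mul_mem hc ((cl_eq_one_iff P n).1 hn)) hc'
  · intro hx
    have := mul_mem_C_left P hx (mem_C_coe P 1)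
    simpa using this

theorem C_eq_doubleCoset (n : P.N) :
    C P (cl P n) = DoubleCoset.doubleCoset (n : G) (P.B : Set G) P.B := by
  ext x
  rw [DoubleCoset.mem_doubleCoset]
  constructor
  · rintro ⟨m, hm, c, hc, c', hc', rfl⟩
    refine ⟨c, hc, (n : G)⁻¹ * m * c', ?_, by group⟩
    exact P.B.mul_mem ((cl_eq_iff P n m).1 hm.symm) hc'
  · rintro ⟨b, hb, b', hb', rfl⟩
    exact ⟨n, rfl, b, hb, b', hb', rfl⟩

theorem C_split {a c : W P} {x : G} (hx : x ∈ C P (a * c)) :
    ∃ y ∈ C P a, ∃ z ∈ C P c, x = y * z := by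
  obtain ⟨n, hn, b, hb, b', hb', rfl⟩ := hx
  obtain ⟨m, rfl⟩ := QuotientGroup.mk_surjective a
  refine ⟨b * m, mul_mem_C_left P hb (mem_C_coe P m), (m : G)⁻¹ * n * b', ?_, by group⟩
  refine ⟨m⁻¹ * n, ?_, 1, P.B.one_mem, b', hb', ?_⟩
  · rw [cl, QuotientGroup.mk_mul, QuotientGroup.mk_inv]
    rw [cl] at hn
    rw [hn]; group
  · simp only [Subgroup.coe_mul, Subgroup.coe_inv]; group

theorem g_mul_C {s : P.S} {w : W P} {x y : G} (hx : x ∈ C P (g P s)) (hy : y ∈ C P w) :
    x * y ∈ C P (g P s * w) ∪ C P w := by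
  obtain ⟨n, hn, b, hb, b', hb', rfl⟩ := hx
  obtain ⟨m, hm, c, hc, c', hc', rfl⟩ := hy
  have h1 : (s : G)⁻¹ * n ∈ P.B := (cl_eq_iff P ⟨s, P.subset s.2⟩ n).1 hn.symm
  have key := P.mul_mem_union s s.2 m m.2 ((s : G)⁻¹ * n * b' * c)
    (P.B.mul_mem (P.B.mul_mem h1 hb') hc)
  have e : b * (n : G) * b' * (c * m * c') = b * ((s : G) * ((s : G)⁻¹ * n * b' * c) * m) * c' := by
    group
  rw [e]
  rcases key with h | h
  · refine Or.inl (mul_mem_C_right P hc' (mul_mem_C_left P hb ?_))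
    rw [← hm]
    show _ ∈ C P (cl P (⟨s, P.subset s.2⟩ * m))
    rw [C_eq_doubleCoset]
    exact h
  · refine Or.inr (mul_mem_C_right P hc' (mul_mem_C_left P hb ?_))
    rw [← hm, C_eq_doubleCoset]
    exact h

theorem C_mul_g {s : P.S} {w : W P} {x y : G} (hy : y ∈ C P w) (hx : x ∈ C P (g P s)) :
    y * x ∈ C P (w * g P s) ∪ C P w := by
  have hx' : x⁻¹ ∈ C P (g P s) := by simpa using inv_mem_C P hx
  rcases g_mul_C P hx' (inv_mem_C P hy) with h | h
  · left; simpa [mul_inv_rev] using inv_mem_C P h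
  · right; simpa [mul_inv_rev] using inv_mem_C P h

/-! ### Words and length -/

/-- Product of a word in `W`. -/
def wp (l : List P.S) : W P := (l.map (g P)).prod

@[simp] theorem wp_nil : wp P [] = 1 := rfl
@[simp] theorem wp_cons (s : P.S) (l : List P.S) : wp P (s :: l) = g P s * wp P l := by simp [wp]
@[simp] theorem wp_append (l l' : List P.S) : wp P (l ++ l') = wp P l * wp P l' := by simp [wp]

theorem wp_reverse (l : List P.S) : wp P l.reverse = (wp P l)⁻¹ := by
  induction l with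
  | nil => simp
  | cons s l ih => simp [ih]

theorem exists_word (w : W P) : ∃ l : List P.S, wp P l = w := by
  obtain ⟨⟨n, hn⟩, rfl⟩ := QuotientGroup.mk_surjective w
  have key : ∀ x ∈ Subgroup.closure (P.S ∪ ((P.B ⊓ P.N : Subgroup G) : Set G)),
      ∀ hx : x ∈ P.N, ∃ l : List P.S, wp P l = cl P ⟨x, hx⟩ := by
    have hle : Subgroup.closure (P.S ∪ ((P.B ⊓ P.N : Subgroup G) : Set G)) ≤ P.N :=
      (Subgroup.closure_le _).2 (Set.union_subset P.subset fun x hx => (Subgroup.mem_inf.1 hx).2)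
    intro x hx
    induction hx using Subgroup.closure_induction with
    | mem x hx =>
      intro hxN
      rcases hx with hx | hx
      · exact ⟨[⟨x, hx⟩], by simp [g]⟩
      · exact ⟨[], ((cl_eq_one_iff P ⟨x, hxN⟩).2 (Subgroup.mem_inf.1 hx).1).symm⟩
    | one => intro h; exact ⟨[], rfl⟩
    | mul x y hx hy ihx ihy =>
      intro h
      obtain ⟨a, ha⟩ := ihx (hle hx)
      obtain ⟨b, hb⟩ := ihy (hle hy)
      exact ⟨a ++ b, by rw [wp_append, ha, hb]; rfl⟩
    | inv x hx ihx =>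
      intro h
      obtain ⟨a, ha⟩ := ihx (hle hx)
      exact ⟨a.reverse, by rw [wp_reverse, ha]; rfl⟩
  refine key n ?_ hn
  rw [Subgroup.closure_union, Subgroup.closure_eq, P.closure_sup]
  exact hn

theorem exists_word_length (w : W P) : ∃ k, ∃ l : List P.S, wp P l = w ∧ l.length = k := by
  obtain ⟨l, hl⟩ := exists_word P w
  exact ⟨_, l, hl, rfl⟩

open Classical in
/-- The length function of `W`. -/
noncomputable def len (w : W P) : ℕ := Nat.find (exists_word_length P w)

open Classical in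
theorem exists_reduced (w : W P) : ∃ l : List P.S, wp P l = w ∧ l.length = len P w :=
  Nat.find_spec (exists_word_length P w)

open Classical in
theorem len_le (l : List P.S) : len P (wp P l) ≤ l.length := Nat.find_le ⟨l, rfl, rfl⟩

/-- A word of minimal length. -/
def Reduced (l : List P.S) : Prop := len P (wp P l) = l.length

theorem len_one : len P (1 : W P) = 0 := Nat.le_zero.1 (len_le P [])

theorem eq_one_of_len_eq_zero {w : W P} (h : len P w = 0) : w = 1 := by
  obtain ⟨l, hl, hl'⟩ := exists_reduced P w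
  rw [h, List.length_eq_zero_iff] at hl'
  simp [← hl, hl']

theorem len_mul_le (a b : W P) : len P (a * b) ≤ len P a + len P b := by
  obtain ⟨l, rfl, hl⟩ := exists_reduced P a
  obtain ⟨m, rfl, hm⟩ := exists_reduced P b
  rw [← hl, ← hm, ← wp_append, ← List.length_append]
  exact len_le P _

theorem len_g (s : P.S) : len P (g P s) = 1 := by
  have h1 : len P (g P s) ≤ 1 := by simpa using len_le P [s]
  have h2 : len P (g P s) ≠ 0 := fun h => g_ne_one P s (eq_one_of_len_eq_zero P h)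
  omega

theorem exists_right {w : W P} (h : 0 < len P w) :
    ∃ w' t, w = w' * g P t ∧ len P w' + 1 = len P w := by
  obtain ⟨l, hl, hlen⟩ := exists_reduced P w
  rcases List.eq_nil_or_concat l with rfl | ⟨l', t, rfl⟩
  · simp at hlen; omega
  · refine ⟨wp P l', t, by simp [← hl], ?_⟩
    have h1 := len_le P l'
    have h2 := len_mul_le P (wp P l') (g P t)
    simp only [List.concat_eq_append, wp_append, wp_cons, wp_nil, mul_one] at hl
    rw [hl, len_g] at h2
    simp at hlen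
    omega

/-- Distinct elements of `W` give disjoint double cosets. -/
theorem C_inj_aux : ∀ k, ∀ w w' : W P, len P w ≤ k → ∀ x, x ∈ C P w → x ∈ C P w' → w = w' := by
  intro k
  induction k with
  | zero =>
    intro w w' hw x hx hx'
    obtain rfl := eq_one_of_len_eq_zero P (Nat.le_zero.1 hw)
    rw [mem_C_one_iff] at hx
    obtain ⟨n, hn, b, hb, b', hb', rfl⟩ := hx'
    have : (n : G) ∈ P.B := by
      have h1 : b⁻¹ * (b * n * b') * b'⁻¹ ∈ P.B :=
        P.B.mul_mem (P.B.mul_mem (P.B.inv_mem hb) hx) (P.B.inv_mem hb')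
      have e : b⁻¹ * (b * (n : G) * b') * b'⁻¹ = n := by group
      rwa [e] at h1
    rw [← hn]
    exact ((cl_eq_one_iff P n).2 this).symm
  | succ k ih =>
    intro w w' hw x hx hx'
    rcases Nat.lt_or_eq_of_le hw with h | h
    · exact ih w w' (by omega) x hx hx'
    obtain ⟨l, hl, hlen⟩ := exists_reduced P w
    rcases l with _ | ⟨s, l⟩
    · simp at hlen; omega
    simp only [wp_cons] at hl
    have hlm : len P (wp P l) ≤ k := by
      have := len_le P l
      simp at hlen; omega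
    rw [← hl] at hx
    obtain ⟨y, hy, z, hz, rfl⟩ := C_split P hx
    have hy' : y⁻¹ ∈ C P (g P s) := by simpa using inv_mem_C P hy
    have h' := g_mul_C P hy' hx'
    rw [inv_mul_cancel_left] at h'
    rcases h' with h' | h'
    · have := ih _ _ hlm z hz h'
      rw [← hl, this, g_mul_cancel]
    · have e := ih _ _ hlm z hz h'
      have := ih w' w (e ▸ hlm) (y * z) hx' (hl ▸ hx)
      exact this.symm

theorem C_inj {w w' : W P} {x : G} (hx : x ∈ C P w) (hx' : x ∈ C P w') : w = w' :=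
  C_inj_aux P _ w w' le_rfl x hx hx'

/-- If `ℓ(sw) ≥ ℓ(w)` then `BsB · BwB = BswB`. -/
theorem g_mul_C_of_le_aux : ∀ k, ∀ (w : W P) (s : P.S), len P w ≤ k → len P w ≤ len P (g P s * w) →
    ∀ x y, x ∈ C P (g P s) → y ∈ C P w → x * y ∈ C P (g P s * w) := by
  intro k
  induction k with
  | zero =>
    intro w s hw _ x y hx hy
    obtain rfl := eq_one_of_len_eq_zero P (Nat.le_zero.1 hw)
    rw [mul_one]
    exact mul_mem_C_right P ((mem_C_one_iff P).1 hy) hx
  | succ k ih =>
    intro w s hw hle x y hx hy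
    rcases Nat.lt_or_eq_of_le hw with h | h
    · exact ih w s (by omega) hle x y hx hy
    rcases g_mul_C P hx hy with h' | h'
    · exact h'
    exfalso
    obtain ⟨w', t, rfl, hw'⟩ := exists_right P (w := w) (by omega)
    obtain ⟨y1, hy1, y2, hy2, rfl⟩ := C_split P hy
    have h3 : len P (g P s * (w' * g P t)) ≤ len P (g P s * w') + 1 := by
      rw [← mul_assoc]
      exact (len_mul_le P _ _).trans (by rw [len_g])
    have hxy1 := ih w' s (by omega) (by omega) x y1 hx hy1
    have hy2' : y2⁻¹ ∈ C P (g P t) := by simpa using inv_mem_C P hy2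
    have h4 := C_mul_g P h' hy2'
    have e : x * (y1 * y2) * y2⁻¹ = x * y1 := by group
    rw [e, mul_g_cancel] at h4
    rcases h4 with h4 | h4
    · exact g_ne_one P s (mul_eq_right.1 (C_inj P hxy1 h4))
    · have e1 := C_inj P hxy1 h4
      rw [← e1, g_mul_cancel] at hle
      rw [← e1] at hw'
      omega

theorem g_mul_C_of_le {w : W P} {s : P.S} (h : len P w ≤ len P (g P s * w)) {x y : G}
    (hx : x ∈ C P (g P s)) (hy : y ∈ C P w) : x * y ∈ C P (g P s * w) :=
  g_mul_C_of_le_aux P _ w s le_rfl h x y hx hy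

theorem exists_mem_C_gg (s : P.S) :
    ∃ x ∈ C P (g P s), ∃ y ∈ C P (g P s), x * y ∈ C P (g P s) := by
  obtain ⟨b, hb, hns⟩ := exists_conj_not_mem P s
  refine ⟨(s : G) * b, mul_mem_C_right P hb (g_mem_C P s), s, g_mem_C P s, ?_⟩
  rcases g_mul_C P (mul_mem_C_right P hb (g_mem_C P s)) (g_mem_C P s) with h | h
  · rw [g_mul_self, mem_C_one_iff] at h
    exact absurd h hns
  · exact h

theorem len_g_mul_ne (s : P.S) (w : W P) : len P (g P s * w) ≠ len P w := by
  intro h
  obtain ⟨x, hx, y, hy, hxy⟩ := exists_mem_C_gg P s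
  obtain ⟨n, hn⟩ := QuotientGroup.mk_surjective w
  have hz : (n : G) ∈ C P w := hn ▸ mem_C_coe P n
  have h1 := g_mul_C_of_le P h.ge hy hz
  have h2 := g_mul_C_of_le P (w := g P s * w) (s := s) (by rw [g_mul_cancel]; omega) hx h1
  rw [g_mul_cancel] at h2
  have h3 := g_mul_C_of_le P h.ge hxy hz
  rw [← mul_assoc] at h2
  exact g_ne_one P s (mul_eq_right.1 (C_inj P h3 h2))

theorem exists_meet {s : P.S} {w : W P} (h : len P (g P s * w) < len P w) :
    ∃ x ∈ C P (g P s), ∃ y ∈ C P w, x * y ∈ C P w := by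
  obtain ⟨x, hx, y, hy, hxy⟩ := exists_mem_C_gg P s
  obtain ⟨n, hn⟩ := QuotientGroup.mk_surjective (g P s * w)
  have hz : (n : G) ∈ C P (g P s * w) := hn ▸ mem_C_coe P n
  have hle : len P (g P s * w) ≤ len P (g P s * (g P s * w)) := by
    rw [g_mul_cancel]; omega
  have h1 := g_mul_C_of_le P hle hy hz
  have h2 := g_mul_C_of_le P hle hxy hz
  rw [g_mul_cancel] at h1 h2
  exact ⟨x, hx, _, h1, by rwa [← mul_assoc]⟩

theorem exchange_of_meet (s : P.S) : ∀ l : List P.S, ∀ x y, x ∈ C P (g P s) → y ∈ C P (wp P l) →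
    x * y ∈ C P (wp P l) → ∃ i < l.length, g P s * wp P l = wp P (l.eraseIdx i) := by
  intro l
  induction l using List.reverseRecOn with
  | nil =>
    intro x y hx hy hxy
    rw [wp_nil, mem_C_one_iff] at hy
    exact absurd (C_inj P (mul_mem_C_right P hy hx) hxy) (g_ne_one P s)
  | append_singleton l t ih =>
    intro x y hx hy hxy
    simp only [wp_append, wp_cons, wp_nil, mul_one] at hy hxy
    obtain ⟨y1, hy1, y2, hy2, rfl⟩ := C_split P hy
    rcases g_mul_C P hx hy1 with h | h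
    · have hy2' : y2⁻¹ ∈ C P (g P t) := by simpa using inv_mem_C P hy2
      have h4 := C_mul_g P hxy hy2'
      have e : x * (y1 * y2) * y2⁻¹ = x * y1 := by group
      rw [e, mul_g_cancel] at h4
      rcases h4 with h4 | h4
      · exact absurd (mul_eq_right.1 (C_inj P h h4)) (g_ne_one P s)
      · refine ⟨l.length, by simp, ?_⟩
        have e1 := C_inj P h h4
        simp [List.eraseIdx_append_of_length_le, ← e1]
    · obtain ⟨i, hi, he⟩ := ih x y1 hx hy1 h
      refine ⟨i, by simp; omega, ?_⟩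
      rw [List.eraseIdx_append_of_lt_length hi]
      simp [← he, mul_assoc]

/-- The exchange condition. -/
theorem exchange {s : P.S} {l : List P.S} (h : len P (g P s * wp P l) < len P (wp P l)) :
    ∃ i < l.length, g P s * wp P l = wp P (l.eraseIdx i) := by
  obtain ⟨x, hx, y, hy, hxy⟩ := exists_meet P h
  exact exchange_of_meet P s l x y hx hy hxy

theorem lt_of_not_reduced {s : P.S} {l : List P.S} (hl : Reduced P l) (h : ¬ Reduced P (s :: l)) :
    len P (g P s * wp P l) < len P (wp P l) := by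
  have h1 : len P (g P s * wp P l) ≤ 1 + len P (wp P l) := by
    have := len_mul_le P (g P s) (wp P l)
    rwa [len_g] at this
  have h2 := len_g_mul_ne P s (wp P l)
  simp only [Reduced, wp_cons, List.length_cons] at h hl
  omega

theorem exists_sublist_reduced (l : List P.S) :
    ∃ l' : List P.S, List.Sublist l' l ∧ Reduced P l' ∧ wp P l' = wp P l := by
  induction l with
  | nil => exact ⟨[], .slnil, by simp [Reduced, len_one], rfl⟩
  | cons s l ih =>
    obtain ⟨l', hsub, hred, he⟩ := ih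
    by_cases h : Reduced P (s :: l')
    · exact ⟨s :: l', hsub.cons_cons s, h, by simp [he]⟩
    · have hlt := lt_of_not_reduced P hred h
      obtain ⟨i, hi, hii⟩ := exchange P hlt
      refine ⟨l'.eraseIdx i, ((List.eraseIdx_sublist _ _).trans hsub).cons s, ?_, by simp [← hii, he]⟩
      have h3 : len P (wp P l') ≤ 1 + len P (g P s * wp P l') := by
        have := len_mul_le P (g P s) (g P s * wp P l')
        rwa [g_mul_cancel, len_g] at this
      simp only [Reduced, ← hii, List.length_eraseIdx, hi, if_true] at hred ⊢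
      omega

theorem reduced_tail {s : P.S} {l : List P.S} (h : Reduced P (s :: l)) : Reduced P l := by
  have h1 := len_le P l
  have h2 := len_mul_le P (g P s) (wp P l)
  simp only [Reduced, wp_cons, List.length_cons] at h ⊢
  rw [len_g] at h2
  omega

/-! ### Subgroups containing `B` -/

/-- Letters of a reduced word lie in the subgroup generated by `B` and a conjugate of `B`. -/
theorem letters_mem_of_conj {M : Subgroup G} (hB : P.B ≤ M) : ∀ (l : List P.S) (n : P.N),
    Reduced P l → cl P n = wp P l → (∀ b ∈ P.B, (n : G) * b * (n : G)⁻¹ ∈ M) →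
      (∀ s ∈ l, (s : G) ∈ M) ∧ (n : G) ∈ M := by
  intro l
  induction l with
  | nil =>
    intro n _ hn _
    exact ⟨by simp, hB ((cl_eq_one_iff P n).1 hn)⟩
  | cons s l ih =>
    intro n hred hn hconj
    have hl := reduced_tail P hred
    have hlt : len P (g P s * wp P (s :: l)) < len P (wp P (s :: l)) := by
      simp only [Reduced, wp_cons, List.length_cons] at hred hl ⊢
      rw [g_mul_cancel]; omega
    obtain ⟨x, hx, y, hy, hxy⟩ := exists_meet P hlt
    have key : ∀ z ∈ C P (cl P n), ∃ b ∈ P.B, ∃ b' ∈ P.B, z = b * n * b' := by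
      intro z hz
      rw [C_eq_doubleCoset, DoubleCoset.mem_doubleCoset] at hz
      exact hz
    rw [← hn] at hy hxy
    obtain ⟨b1, hb1, b2, hb2, rfl⟩ := key _ hy
    obtain ⟨b3, hb3, b4, hb4, he⟩ := key _ hxy
    have hxM : x ∈ M := by
      have : x = b3 * ((n : G) * (b4 * b2⁻¹) * (n : G)⁻¹) * b1⁻¹ := by
        rw [eq_mul_inv_iff_mul_eq] at *
        calc x * b1 = x * (b1 * n * b2) * b2⁻¹ * (n : G)⁻¹ := by group
          _ = _ := by rw [he]; group
      rw [this]
      exact M.mul_mem (M.mul_mem (hB hb3) (hconj _ (P.B.mul_mem hb4 (P.B.inv_mem hb2))))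
        (M.inv_mem (hB hb1))
    have hsM : (s : G) ∈ M := by
      have e : C P (g P s) = DoubleCoset.doubleCoset (s : G) (P.B : Set G) P.B :=
        C_eq_doubleCoset P ⟨s, P.subset s.2⟩
      rw [e, DoubleCoset.mem_doubleCoset] at hx
      obtain ⟨c, hc, c', hc', rfl⟩ := hx
      have : c⁻¹ * (c * (s : G) * c') * c'⁻¹ ∈ M :=
        M.mul_mem (M.mul_mem (M.inv_mem (hB hc)) hxM) (M.inv_mem (hB hc'))
      have e2 : c⁻¹ * (c * (s : G) * c') * c'⁻¹ = s := by group
      rwa [e2] at this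
    let m : P.N := ⟨s, P.subset s.2⟩⁻¹ * n
    have hm : cl P m = wp P l := by
      show (cl P ⟨s, P.subset s.2⟩)⁻¹ * cl P n = _
      rw [hn, wp_cons]
      exact inv_mul_cancel_left _ _
    have hmc : ∀ b ∈ P.B, (m : G) * b * (m : G)⁻¹ ∈ M := by
      intro b hb
      have : (m : G) * b * (m : G)⁻¹ = (s : G)⁻¹ * ((n : G) * b * (n : G)⁻¹) * s := by
        simp only [m, Subgroup.coe_mul, Subgroup.coe_inv]; group
      rw [this]
      exact M.mul_mem (M.mul_mem (M.inv_mem hsM) (hconj b hb)) hsM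
    obtain ⟨hlet, hmM⟩ := ih m hl hm hmc
    refine ⟨List.forall_mem_cons.2 ⟨hsM, hlet⟩, ?_⟩
    have : (n : G) = (s : G) * m := by simp [m]
    rw [this]
    exact M.mul_mem hsM hmM

theorem conj_mem_of_mem {M : Subgroup G} (hB : P.B ≤ M) {n : G} (hn : n ∈ M) :
    ∀ b ∈ P.B, n * b * n⁻¹ ∈ M := fun b hb => M.mul_mem (M.mul_mem hn (hB hb)) (M.inv_mem hn)

theorem letters_mem {M : Subgroup G} (hB : P.B ≤ M) {l : List P.S} (hl : Reduced P l) {x : G}
    (hx : x ∈ C P (wp P l)) (hxM : x ∈ M) : ∀ s ∈ l, (s : G) ∈ M := by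
  obtain ⟨n, hn, b, hb, b', hb', rfl⟩ := hx
  have hnM : (n : G) ∈ M := by
    have h1 := M.mul_mem (M.mul_mem (M.inv_mem (hB hb)) hxM) (M.inv_mem (hB hb'))
    have e : b⁻¹ * (b * (n : G) * b') * b'⁻¹ = n := by group
    rwa [e] at h1
  exact (letters_mem_of_conj P hB l n hl hn (conj_mem_of_mem P hB hnM)).1

/-- The union of the `B w B` over words in `J`. -/
def PJ (J : Set G) : Set G := {x | ∃ l : List P.S, (∀ s ∈ l, (s : G) ∈ J) ∧ x ∈ C P (wp P l)}

theorem self_mem_parabolic (J : Set G) {s : G} (hs : s ∈ J) : s ∈ P.parabolic J :=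
  Subgroup.mem_sup_right (Subgroup.subset_closure hs)

theorem B_le_parabolic (J : Set G) : P.B ≤ P.parabolic J := le_sup_left

theorem coe_wp (l : List P.S) :
    ∃ n : P.N, cl P n = wp P l ∧ (n : G) = (l.map (Subtype.val : P.S → G)).prod := by
  induction l with
  | nil => exact ⟨1, rfl, rfl⟩
  | cons s l ih =>
    obtain ⟨n, hn, hn'⟩ := ih
    refine ⟨⟨s, P.subset s.2⟩ * n, ?_, by simp [hn']⟩
    rw [wp_cons, ← hn]; rfl

theorem parabolic_eq {J : Set G} (hJ : J ⊆ P.S) : (P.parabolic J : Set G) = PJ P J := by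
  have hstep : ∀ (s : G) (hs : s ∈ J), ∀ x ∈ PJ P J, ∀ y ∈ C P (g P ⟨s, hJ hs⟩), y * x ∈ PJ P J := by
    rintro s hs x ⟨l, hl, hx⟩ y hy
    rcases g_mul_C P hy hx with h | h
    · exact ⟨⟨s, hJ hs⟩ :: l, List.forall_mem_cons.2 ⟨hs, hl⟩, by rwa [wp_cons]⟩
    · exact ⟨l, hl, h⟩
  apply Set.Subset.antisymm
  · intro x hx
    have : ∀ y ∈ PJ P J, x * y ∈ PJ P J := by
      rw [SetLike.mem_coe, BNPair.parabolic, ← Subgroup.closure_eq P.B, ← Subgroup.closure_union] at hx
      induction hx using Subgroup.closure_induction'' with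
      | mem x hx =>
        intro y hy
        rcases hx with hx | hx
        · obtain ⟨l, hl, hy⟩ := hy
          exact ⟨l, hl, mul_mem_C_left P hx hy⟩
        · exact hstep x hx y hy x (g_mem_C P ⟨x, hJ hx⟩)
      | inv_mem x hx =>
        intro y hy
        rcases hx with hx | hx
        · obtain ⟨l, hl, hy⟩ := hy
          exact ⟨l, hl, mul_mem_C_left P (P.B.inv_mem hx) hy⟩
        · refine hstep x hx y hy x⁻¹ ?_
          simpa using inv_mem_C P (g_mem_C P ⟨x, hJ hx⟩)
      | one => intro y hy; rwa [one_mul]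
      | mul a b _ _ iha ihb => intro y hy; rw [mul_assoc]; exact iha _ (ihb _ hy)
    simpa using this 1 ⟨[], by simp, by rw [wp_nil, mem_C_one_iff]; exact P.B.one_mem⟩
  · rintro x ⟨l, hl, hx⟩
    obtain ⟨n, hn, hn'⟩ := coe_wp P l
    rw [← hn, C_eq_doubleCoset, DoubleCoset.mem_doubleCoset] at hx
    obtain ⟨b, hb, b', hb', rfl⟩ := hx
    refine mul_mem (mul_mem (B_le_parabolic P J hb) ?_) (B_le_parabolic P J hb')
    rw [hn']
    refine list_prod_mem fun a ha => ?_
    obtain ⟨s, hs, rfl⟩ := List.mem_map.1 ha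
    exact self_mem_parabolic P J (hl s hs)

theorem parabolic_univ : P.parabolic P.S = ⊤ := by
  rw [eq_top_iff, ← P.sup_eq_top, ← P.closure_sup]
  exact sup_le le_sup_left (sup_le le_sup_right (inf_le_left.trans le_sup_left))

theorem exists_mem_C (x : G) : ∃ w, x ∈ C P w := by
  have : x ∈ (P.parabolic P.S : Set G) := by rw [parabolic_univ]; exact Set.mem_univ x
  rw [parabolic_eq P subset_rfl] at this
  obtain ⟨l, _, hx⟩ := this
  exact ⟨_, hx⟩

theorem eq_parabolic {M : Subgroup G} (hB : P.B ≤ M) : M = P.parabolic (P.S ∩ M) := by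
  apply le_antisymm
  · intro x hx
    obtain ⟨w, hw⟩ := exists_mem_C P x
    obtain ⟨l, rfl, hl⟩ := exists_reduced P w
    have : x ∈ (P.parabolic (P.S ∩ M) : Set G) := by
      rw [parabolic_eq P Set.inter_subset_left]
      exact ⟨l, fun s hs => ⟨s.2, letters_mem P hB hl.symm hw hx s hs⟩, hw⟩
    exact this
  · exact sup_le hB ((Subgroup.closure_le _).2 Set.inter_subset_right)

theorem mem_of_mem_parabolic {J : Set G} (hJ : J ⊆ P.S) (s : P.S)
    (h : (s : G) ∈ P.parabolic J) : (s : G) ∈ J := by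
  have h' : (s : G) ∈ (P.parabolic J : Set G) := h
  rw [parabolic_eq P hJ] at h'
  obtain ⟨l, hl, hx⟩ := h'
  obtain ⟨l', hsub, hred, he⟩ := exists_sublist_reduced P l
  have hw := C_inj P hx (g_mem_C P s)
  rw [hw] at he
  have hlen : l'.length = 1 := by rw [← hred, he, len_g]
  obtain ⟨t, rfl⟩ := List.length_eq_one_iff.1 hlen
  rw [wp_cons, wp_nil, mul_one] at he
  rw [← g_injective P he]
  exact hl t (hsub.subset (by simp))

theorem inter_parabolic {J : Set G} (hJ : J ⊆ P.S) : P.S ∩ (P.parabolic J : Set G) = J := by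
  ext x
  exact ⟨fun ⟨h1, h2⟩ => mem_of_mem_parabolic P hJ ⟨x, h1⟩ h2,
    fun h => ⟨hJ h, self_mem_parabolic P J h⟩⟩

end Cfsg.Agent.BN
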