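import Cfsg.Agent.Lib.BN.Basic

/-! The Weyl group of a (B,N)-pair of rank two, by alternating words. -/

set_option linter.style.haveILetI false
set_option autoImplicit false

namespace Cfsg.Agent.BN.Rank2

variable {G : Type*} [Group G] (P : Cfsg.BNPair G)

/-- The alternating product of length `k` starting with `x`. -/
def el : P.S → P.S → ℕ → W P
  | _, _, 0 => 1
  | x, y, k + 1 => g P x * el y x k

@[simp] theorem el_zero (x y : P.S) : el P x y 0 = 1 := rfl
theorem el_succ (x y : P.S) (k : ℕ) : el P x y (k + 1) = g P x * el P y x k := rfl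

theorem el_even (x y : P.S) : ∀ i, el P x y (2 * i) = (g P x * g P y) ^ i
  | 0 => by simp
  | i + 1 => by
    rw [show 2 * (i + 1) = 2 * i + 1 + 1 by ring, el_succ, el_succ, el_even x y i, pow_succ', mul_assoc]

theorem el_odd (x y : P.S) : ∀ i, el P x y (2 * i + 1) = (g P x * g P y) ^ i * g P x
  | 0 => by simp [el_succ]
  | i + 1 => by
    rw [show 2 * (i + 1) + 1 = 2 * i + 1 + 1 + 1 by ring, el_succ, el_succ, el_odd x y i, pow_succ',
      mul_assoc, mul_assoc]

theorem inv_prod (x y : P.S) : (g P x * g P y)⁻¹ = g P y * g P x := by simp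

theorem el_inv_even (x y : P.S) (i : ℕ) : (el P x y (2 * i))⁻¹ = el P y x (2 * i) := by
  rw [el_even, el_even, ← inv_pow, inv_prod]

theorem el_inv_odd (x y : P.S) (i : ℕ) : (el P x y (2 * i + 1))⁻¹ = el P x y (2 * i + 1) := by
  have h : el P y x (2 * i) * g P y = el P y x (2 * i + 1) := by rw [el_even, el_odd]
  rw [el_succ, mul_inv_rev, g_inv, el_inv_even]
  rw [el_even]
  have hc : SemiconjBy (g P x) (g P y * g P x) (g P x * g P y) := by
    simp only [SemiconjBy, mul_assoc]
  rw [el_even, (hc.pow_right i).eq]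

/-- The order of the product of two generators. -/
noncomputable def mm (x y : P.S) : ℕ := orderOf (g P x * g P y)

theorem mm_comm (x y : P.S) : mm P x y = mm P y x := by
  rw [mm, mm, ← orderOf_inv, inv_prod]

/-- The two generators. -/
def Pair (x y : P.S) : Prop := x ≠ y ∧ ∀ z : P.S, z = x ∨ z = y

variable {P}

theorem Pair.symm {x y : P.S} (h : Pair P x y) : Pair P y x := ⟨h.1.symm, fun z => (h.2 z).symm⟩

theorem el_len_le : ∀ (k : ℕ) (x y : P.S), len P (el P x y k) ≤ k
  | 0, _, _ => (len_one P).le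
  | k + 1, x, y => by
    refine (len_mul_le P _ _).trans ?_
    rw [len_g]
    exact (Nat.add_le_add_left (el_len_le k y x) 1).trans (by omega)

theorem el_cases {x y : P.S} (h : Pair P x y) (w : W P) :
    ∃ k ≤ len P w, w = el P x y k ∨ w = el P y x k := by
  obtain ⟨l, rfl, hlen⟩ := exists_reduced P w
  rw [← hlen]
  clear hlen
  induction l with
  | nil => exact ⟨0, le_rfl, Or.inl rfl⟩
  | cons z l ih =>
    obtain ⟨k, hk, hw⟩ := ih
    rw [wp_cons]
    rcases k with _ | k
    · have hw1 : wp P l = 1 := by rcases hw with hw | hw <;> exact hw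
      refine ⟨1, by simp, ?_⟩
      rcases h.2 z with rfl | rfl <;> simp [hw1, el_succ]
    have main : ∀ u v : P.S, (z = u ∨ z = v) → wp P l = el P u v (k + 1) →
        ∃ j ≤ (z :: l).length, g P z * wp P l = el P u v j ∨ g P z * wp P l = el P v u j := by
      rintro u v (rfl | rfl) hw'
      · exact ⟨k, by simp; omega, Or.inr (by rw [hw', el_succ, g_mul_cancel])⟩
      · exact ⟨k + 2, by simp; omega, Or.inr (by rw [hw', el_succ P z u (k + 1)])⟩
    rcases hw with hw | hw
    · exact main x y (h.2 z) hw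
    · obtain ⟨j, hj, hj'⟩ := main y x (h.2 z).symm hw
      exact ⟨j, hj, hj'.symm⟩

section
variable [Finite G] {x y : P.S} (h : Pair P x y)
include h

theorem mm_ne_one : mm P x y ≠ 1 := by
  intro e
  rw [mm, orderOf_eq_one_iff, mul_eq_one_iff_eq_inv, g_inv] at e
  exact h.1 (g_injective P e)

theorem two_le_mm : 2 ≤ mm P x y := by
  have h0 : 0 < mm P x y := orderOf_pos _
  have := mm_ne_one h
  omega

omit h in
theorem el_top : el P x y (mm P x y) = el P y x (mm P x y) := by
  have hc : SemiconjBy (g P x) (g P y * g P x) (g P x * g P y) := by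
    simp only [SemiconjBy, mul_assoc]
  rcases Nat.even_or_odd' (mm P x y) with ⟨i, hi | hi⟩
  · rw [hi, el_even, el_even, ← inv_prod P x y, inv_pow, eq_inv_iff_mul_eq_one, ← pow_add, ← two_mul, ← hi]
    exact pow_orderOf_eq_one _
  · have e : (g P x * g P y) ^ (2 * i + 1) = 1 := by rw [← hi]; exact pow_orderOf_eq_one _
    rw [hi, el_odd, el_odd, ← inv_prod P x y, inv_pow, eq_inv_mul_iff_mul_eq, ← mul_assoc, ← pow_add, ← two_mul]
    calc (g P x * g P y) ^ (2 * i) * g P x
        = (g P x * g P y) ^ (2 * i + 1) * g P y := by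
          rw [pow_succ (g P x * g P y)]; simp [mul_assoc]
      _ = g P y := by rw [e, one_mul]

theorem not_mem_zpowers : g P x ∉ Subgroup.zpowers (g P x * g P y) := by
  intro hx
  have hy : g P y ∈ Subgroup.zpowers (g P x * g P y) := by
    simpa using mul_mem (inv_mem hx) (Subgroup.mem_zpowers (g P x * g P y))
  haveI : IsCyclic (Subgroup.zpowers (g P x * g P y)) := inferInstance
  classical
  haveI := Fintype.ofFinite (Subgroup.zpowers (g P x * g P y))
  have hc := IsCyclic.card_pow_eq_one_le (α := Subgroup.zpowers (g P x * g P y)) (n := 2) two_pos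
  have h3 : ({1, ⟨g P x, hx⟩, ⟨g P y, hy⟩} : Finset (Subgroup.zpowers (g P x * g P y))).card ≤ 2 :=
    le_trans (Finset.card_le_card fun z hz => by
      simp only [Finset.mem_insert, Finset.mem_singleton] at hz
      refine Finset.mem_filter.mpr ⟨Finset.mem_univ _, ?_⟩
      rcases hz with rfl | rfl | rfl <;> exact Subtype.ext (by simp [sq])) hc
  rw [Finset.card_insert_of_notMem (by simp [Subtype.ext_iff, (g_ne_one P x).symm, (g_ne_one P y).symm]),
    Finset.card_insert_of_notMem (by simpa using fun e => h.1 (g_injective P e)),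
    Finset.card_singleton] at h3
  omega

theorem pow_mul_ne {u v : W P} (hu : u ∈ Subgroup.zpowers (g P x * g P y))
    (hv : v ∈ Subgroup.zpowers (g P x * g P y)) : u * g P x ≠ v := by
  intro e
  have h1 := mul_mem (inv_mem hu) hv
  rw [← e, inv_mul_cancel_left] at h1
  exact not_mem_zpowers h h1

/-- The elements of a fixed first letter are distinct. -/
theorem el_inj_same {j k : ℕ} (hj : j ≤ mm P x y) (hk : k ≤ mm P x y) (e : el P x y j = el P x y k) :
    j = k := by
  rcases Nat.even_or_odd' j with ⟨i, rfl | rfl⟩ <;> rcases Nat.even_or_odd' k with ⟨l, rfl | rfl⟩ <;>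
    simp only [el_even, el_odd, mul_left_inj] at e
  · rw [pow_inj_mod] at e
    have h2 := two_le_mm h
    rw [mm] at hj hk h2
    rw [Nat.mod_eq_of_lt (by omega), Nat.mod_eq_of_lt (by omega)] at e
    omega
  · exact absurd e.symm (pow_mul_ne h (pow_mem (Subgroup.mem_zpowers _) _) (pow_mem (Subgroup.mem_zpowers _) _))
  · exact absurd e (pow_mul_ne h (pow_mem (Subgroup.mem_zpowers _) _) (pow_mem (Subgroup.mem_zpowers _) _))
  · rw [pow_inj_mod] at e
    rw [mm] at hj hk
    rw [Nat.mod_eq_of_lt (by omega), Nat.mod_eq_of_lt (by omega)] at e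
    omega

/-- The two families meet only at the ends. -/
theorem el_inj_swap {j k : ℕ} (hj : j ≤ mm P x y) (hk : k ≤ mm P x y) (e : el P x y j = el P y x k) :
    (j = 0 ∧ k = 0) ∨ (j = mm P x y ∧ k = mm P x y) := by
  rcases Nat.eq_zero_or_pos k with rfl | hk0
  · rw [el_zero, ← el_zero P x y] at e
    exact Or.inl ⟨el_inj_same h hj (Nat.zero_le _) e, rfl⟩
  rcases Nat.eq_zero_or_pos j with rfl | hj0
  · rw [el_zero, ← el_zero P y x] at e
    exact Or.inl ⟨rfl, (el_inj_same h.symm (Nat.zero_le _) (mm_comm P x y ▸ hk) e).symm⟩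
  obtain ⟨j, rfl⟩ : ∃ i, j = i + 1 := ⟨j - 1, by omega⟩
  rcases Nat.lt_or_eq_of_le hk with hk' | hk'
  · have e' : el P y x j = el P x y (k + 1) := by
      rw [el_succ, ← e, el_succ, g_mul_cancel]
    rcases Nat.eq_zero_or_pos j with rfl | hj'
    · rw [el_zero, ← el_zero P x y] at e'
      have := el_inj_same h (Nat.zero_le _) hk' e'
      omega
    · have h' : j + (k + 1) = j + 1 + k := by omega
      exfalso
      rcases Nat.even_or_odd' j with ⟨i, rfl | rfl⟩ <;> rcases Nat.even_or_odd' k with ⟨l, rfl | rfl⟩ <;>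
        simp only [show ∀ l, 2 * l + 1 + 1 = 2 * (l + 1) from fun l => by ring, el_even, el_odd] at e'
      · rw [← inv_prod P x y, inv_pow] at e'
        exact pow_mul_ne h (pow_mem (Subgroup.mem_zpowers _) _) (inv_mem (pow_mem (Subgroup.mem_zpowers _) _)) e'.symm
      · rw [← inv_prod P x y, inv_pow, inv_eq_iff_mul_eq_one, ← pow_add, ← orderOf_dvd_iff_pow_eq_one] at e'
        rw [mm] at hj hk'
        have := Nat.le_of_dvd (by omega) e'
        omega
      · have e2 : (g P x * g P y)⁻¹ ^ (i + 1) * g P x = el P y x (2 * i + 1) := by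
          rw [el_odd, inv_prod, pow_succ]; simp [mul_assoc]
        rw [← el_odd P y x, ← e2, inv_pow, mul_left_inj, inv_eq_iff_mul_eq_one, ← pow_add,
          ← orderOf_dvd_iff_pow_eq_one] at e'
        rw [mm] at hj hk'
        have := Nat.le_of_dvd (by omega) e'
        omega
      · have e2 : (g P x * g P y)⁻¹ ^ (i + 1) * g P x = el P y x (2 * i + 1) := by
          rw [el_odd, inv_prod, pow_succ]; simp [mul_assoc]
        rw [← el_odd P y x, ← e2, inv_pow] at e'
        exact pow_mul_ne h (inv_mem (pow_mem (Subgroup.mem_zpowers _) _)) (pow_mem (Subgroup.mem_zpowers _) _) e'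
  · subst hk'
    rw [← el_top] at e
    exact Or.inr ⟨el_inj_same h hj le_rfl e, rfl⟩

theorem len_el {k : ℕ} (hk : k ≤ mm P x y) : len P (el P x y k) = k := by
  obtain ⟨j, hj, hw⟩ := el_cases h (el P x y k)
  have hle := el_len_le k x y
  refine le_antisymm hle ?_
  rcases hw with hw | hw
  · have := el_inj_same h hk (by omega) hw
    omega
  · rcases el_inj_swap h hk (by omega) hw with ⟨h1, -⟩ | ⟨h1, h2⟩ <;> omega

theorem len_le_mm (w : W P) : len P w ≤ mm P x y := by
  have hstep : ∀ k, ∀ u v : P.S, Pair P u v → mm P u v ≤ k → len P (el P u v (k + 1)) ≤ k := by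
    intro k
    induction k with
    | zero => intro u v huv hm; have := two_le_mm huv; omega
    | succ k ih =>
      intro u v huv hm
      rcases Nat.lt_or_eq_of_le hm with hlt | heq
      · rw [el_succ]
        refine (len_mul_le P _ _).trans ?_
        have := ih v u huv.symm (by rw [← mm_comm P u v]; omega)
        rw [len_g]; omega
      · rw [el_succ, ← heq, ← el_top]
        obtain ⟨i, hi⟩ : ∃ i, mm P u v = i + 1 := ⟨k, heq⟩
        rw [hi, el_succ, g_mul_cancel]
        exact (el_len_le _ _ _).trans (by omega)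
  obtain ⟨k, hk, hw⟩ := el_cases h w
  by_contra hgt
  obtain ⟨i, rfl⟩ : ∃ i, k = i + 1 := by
    refine ⟨k - 1, ?_⟩
    rcases hw with rfl | rfl
    · have := el_len_le k x y; omega
    · have := el_len_le k y x; omega
  rcases hw with rfl | rfl
  · have := hstep i x y h (by have := el_len_le (i + 1) x y; omega)
    omega
  · have := hstep i y x h.symm (by rw [← mm_comm P x y]; have := el_len_le (i + 1) y x; omega)
    omega

theorem el_surj (w : W P) : ∃ k < mm P x y, w = el P y x k ∨ w = el P x y (k + 1) := by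
  obtain ⟨k, hk, hw⟩ := el_cases h w
  have hm := len_le_mm h w
  have h2 := two_le_mm h
  rcases hw with hw | hw
  · rcases k with _ | k
    · exact ⟨0, by omega, Or.inl hw⟩
    · exact ⟨k, by omega, Or.inr hw⟩
  · rcases Nat.lt_or_eq_of_le (hk.trans hm) with hlt | heq
    · exact ⟨k, hlt, Or.inl hw⟩
    · refine ⟨k - 1, by omega, Or.inr ?_⟩
      rw [show k - 1 + 1 = k by omega, hw, heq, el_top]

theorem surj_bij :
    Function.Bijective fun p : Fin (mm P x y) ⊕ Fin (mm P x y) =>
      Sum.elim (fun k : Fin (mm P x y) => el P y x k) (fun k : Fin (mm P x y) => el P x y (k + 1)) p := by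
  refine ⟨?_, fun w => ?_⟩
  · rintro (p | p) (q | q) e <;> simp only [Sum.elim_inl, Sum.elim_inr] at e
    · refine congrArg Sum.inl (Fin.ext (el_inj_same h.symm ?_ ?_ e)) <;>
        rw [← mm_comm P x y] <;> omega
    · rcases el_inj_swap h (by omega) (by omega) e.symm with ⟨h1, h2⟩ | ⟨h1, h2⟩
      · omega
      · have := p.2; omega
    · rcases el_inj_swap h (by omega) (by omega) e with ⟨h1, h2⟩ | ⟨h1, h2⟩
      · omega
      · have := q.2; omega
    · have := el_inj_same h (by omega) (by omega) e
      exact congrArg Sum.inr (Fin.ext (by omega))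
  · obtain ⟨k, hk, hw | hw⟩ := el_surj h w
    · exact ⟨Sum.inl ⟨k, hk⟩, hw.symm⟩
    · exact ⟨Sum.inr ⟨k, hk⟩, hw.symm⟩

end

end Cfsg.Agent.BN.Rank2
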