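import Mathlib

/-! The arithmetic of the Feit–Higman theorem: the three-term recurrence of a generalised polygon. -/

set_option autoImplicit false

namespace Cfsg.Agent.BN.Gon

open Real Finset

/-- The rational reals. -/
noncomputable def Qr : Subfield ℝ := (Rat.castHom ℝ).fieldRange

theorem mem_Qr {x : ℝ} : x ∈ Qr ↔ ∃ q : ℚ, x = q :=
  ⟨fun ⟨q, hq⟩ => ⟨q, hq.symm⟩, fun ⟨q, hq⟩ => ⟨q, hq.symm⟩⟩

/-- The recurrence operator of the point graph. -/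
noncomputable def rec' (m : ℕ) (s t : ℝ) (u : ℕ → ℝ) (j : ℕ) : ℝ :=
  if j = 0 then (1 + t) * s * u 1
  else u (j - 1) + (s - 1) * u j +
    t * (if j < m / 2 then s * u (j + 1)
      else if Even m then u (m / 2 - 1) + (s - 1) * u (m / 2) else s * u (m / 2))

/-- The weights of the double cosets. -/
def wt (s t : ℝ) (k : ℕ) : ℝ := (s * t) ^ (k / 2) * s ^ (k % 2)

theorem sum_two_mul (f : ℕ → ℝ) : ∀ n, ∑ k ∈ range (2 * n), f k =
    ∑ j ∈ range n, f (2 * j) + ∑ j ∈ range n, f (2 * j + 1)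
  | 0 => by simp
  | n + 1 => by
    rw [show 2 * (n + 1) = 2 * n + 1 + 1 by ring, sum_range_succ, sum_range_succ, sum_range_succ,
      sum_range_succ, sum_two_mul f n]
    ring

/-- A solution of the interior recurrence. -/
noncomputable def wv (φ β : ℝ) (j : ℕ) : ℝ := cos (j * φ) + β * sin (j * φ)

theorem wv_rec (φ β : ℝ) (j : ℕ) : wv φ β (j + 2) + wv φ β j = 2 * cos φ * wv φ β (j + 1) := by
  unfold wv
  rw [show ((j + 2 : ℕ) : ℝ) * φ = ((j + 1 : ℕ) : ℝ) * φ + φ by push_cast; ring,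
    show (j : ℝ) * φ = ((j + 1 : ℕ) : ℝ) * φ - φ by push_cast; ring, cos_add, cos_sub, sin_add, sin_sub]
  ring

theorem wv_one (φ β : ℝ) : wv φ β 1 = cos φ + β * sin φ := by simp [wv]

theorem wv_zero (φ β : ℝ) : wv φ β 0 = 1 := by simp [wv]

theorem trig_sums (φ : ℝ) (n : ℕ) :
    2 * sin φ * ∑ j ∈ range n, cos (2 * ((j : ℝ) * φ)) = sin ((2 * (n : ℝ) - 1) * φ) + sin φ ∧
    2 * sin φ * ∑ j ∈ range n, sin (2 * ((j : ℝ) * φ)) = cos φ - cos ((2 * (n : ℝ) - 1) * φ) := by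
  induction n with
  | zero => simp
  | succ n ih =>
    rw [sum_range_succ, sum_range_succ, mul_add, mul_add, ih.1, ih.2,
      show (2 * ((n + 1 : ℕ) : ℝ) - 1) * φ = 2 * ((n : ℝ) * φ) + φ by push_cast; ring,
      show (2 * (n : ℝ) - 1) * φ = 2 * ((n : ℝ) * φ) - φ by ring, cos_add, cos_sub, sin_add, sin_sub]
    constructor <;> ring

theorem sum_wv_sq (φ β : ℝ) (n : ℕ) :
    ∑ j ∈ range n, wv φ β j ^ 2 = (n : ℝ) * (1 + β ^ 2) / 2 +
      (1 - β ^ 2) / 2 * ∑ j ∈ range n, cos (2 * ((j : ℝ) * φ)) +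
      β * ∑ j ∈ range n, sin (2 * ((j : ℝ) * φ)) := by
  induction n with
  | zero => simp
  | succ n ih =>
    rw [sum_range_succ, sum_range_succ, sum_range_succ, ih, cos_two_mul, sin_two_mul]
    unfold wv
    push_cast
    linear_combination β ^ 2 * sin_sq_add_cos_sq ((n : ℝ) * φ)

theorem sol_interior {φ β r s t : ℝ} (hr : r ≠ 0) (hr2 : r * r = s * t) (j : ℕ) :
    wv φ β j / r ^ j + (s - 1) * (wv φ β (j + 1) / r ^ (j + 1)) + t * (s * (wv φ β (j + 2) / r ^ (j + 2))) =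
      (s - 1 + 2 * r * cos φ) * (wv φ β (j + 1) / r ^ (j + 1)) := by
  have h := wv_rec φ β j
  rw [show t * (s * (wv φ β (j + 2) / r ^ (j + 2))) = r * r * (wv φ β (j + 2) / r ^ (j + 2)) by rw [hr2]; ring,
    pow_succ, pow_succ, pow_succ]
  field_simp
  linear_combination r * h

theorem sin_nat_mul_two_pi' (i : ℕ) : sin ((i : ℝ) * (2 * π)) = 0 := by
  rw [show (i : ℝ) * (2 * π) = ((2 * i : ℕ) : ℝ) * π by push_cast; ring]
  exact sin_nat_mul_pi _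

theorem rat_relation_even {d : ℕ} {s t : ℕ} (hs : 2 ≤ s) (ht : 2 ≤ t) (hd : 1 ≤ d)
    (key : ∀ (θ : ℝ) (u : ℕ → ℝ), u 0 = 1 → (∀ j ≤ 2 * d / 2, rec' (2 * d) s t u j = θ * u j) →
      ∑ k ∈ range (2 * d), wt s t k * u ((k + 1) / 2) ^ 2 ∈ Qr)
    {i : ℕ} (hi : 0 < i) (hi' : i < d) :
    ∃ Q ∈ Qr, 0 ≤ Q ∧ (((t : ℝ) - 1) * (√((s : ℝ) * t) * cos ((i : ℝ) * π / d)) + (t : ℝ) * ((s : ℝ) - 1)) ^ 2 =
      Q * ((s : ℝ) * t - (√((s : ℝ) * t) * cos ((i : ℝ) * π / d)) ^ 2) := by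
  obtain ⟨φ, hφ⟩ : ∃ φ, φ = (i : ℝ) * π / d := ⟨_, rfl⟩
  obtain ⟨r, hr⟩ : ∃ r, r = √((s : ℝ) * t) := ⟨_, rfl⟩
  rw [← hφ, ← hr]
  have hs0 : (0 : ℝ) < s := by exact_mod_cast (by omega : 0 < s)
  have ht0 : (0 : ℝ) < t := by exact_mod_cast (by omega : 0 < t)
  have hr0 : 0 < r := hr ▸ Real.sqrt_pos.mpr (mul_pos hs0 ht0)
  have hr2 : r * r = (s : ℝ) * t := hr ▸ Real.mul_self_sqrt (mul_pos hs0 ht0).le
  have hd0 : (0 : ℝ) < d := by exact_mod_cast hd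
  have hsin : 0 < sin φ := by
    refine sin_pos_of_pos_of_lt_pi ?_ ?_
    · rw [hφ]
      have : (0 : ℝ) < i := by exact_mod_cast hi
      positivity
    · rw [hφ, div_lt_iff₀ hd0]
      have : (i : ℝ) < d := by exact_mod_cast hi'
      nlinarith [pi_pos]
  have hdφ : (d : ℝ) * φ = (i : ℝ) * π := by rw [hφ]; field_simp
  obtain ⟨θ, hθ⟩ : ∃ θ, θ = (s : ℝ) - 1 + 2 * r * cos φ := ⟨_, rfl⟩
  obtain ⟨β, hβ⟩ : ∃ β, β = (r * θ / (s * (1 + t)) - cos φ) / sin φ := ⟨_, rfl⟩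
  have hw1 : wv φ β 1 = r * θ / (s * (1 + t)) := by rw [wv_one, hβ]; field_simp; ring
  have hwd : wv φ β d = cos ((i : ℝ) * π) := by rw [wv, hdφ, sin_nat_mul_pi]; ring
  have hwd' : wv φ β (d - 1) = wv φ β d * (2 * cos φ - wv φ β 1) := by
    rw [hwd, wv_one, wv, Nat.cast_sub hd, Nat.cast_one, sub_mul, one_mul, hdφ, cos_sub, sin_sub, sin_nat_mul_pi]
    ring
  obtain ⟨u, hu⟩ : ∃ u : ℕ → ℝ, u = fun j => wv φ β j / r ^ j := ⟨_, rfl⟩
  have hrec : ∀ j ≤ 2 * d / 2, rec' (2 * d) s t u j = θ * u j := by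
    intro j hj
    rw [Nat.mul_div_cancel_left _ two_pos] at hj
    unfold rec'
    simp only [Nat.mul_div_cancel_left _ (two_pos : 0 < 2), even_two_mul, if_true, hu]
    rcases Nat.eq_zero_or_pos j with rfl | hj0
    · rw [if_pos rfl, hw1, wv_zero, pow_one, pow_zero]
      field_simp
    obtain ⟨j, rfl⟩ : ∃ k, j = k + 1 := ⟨j - 1, by omega⟩
    rw [if_neg (by omega), show j + 1 - 1 = j by omega, hθ]
    rcases Nat.lt_or_eq_of_le hj with hlt | heq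
    · rw [if_pos hlt]
      exact sol_interior hr0.ne' hr2 j
    · rw [if_neg (by omega), ← heq, show j + 1 - 1 = j by omega]
      rw [← heq, show j + 1 - 1 = j by omega] at hwd'
      rw [hwd', hw1, hθ, pow_succ]
      field_simp
      linear_combination (-(wv φ β (j + 1)) * ((s : ℝ) - 1 + 2 * r * cos φ)) * hr2
  have hsum := key θ u (by simp [hu, wv_zero]) hrec
  have h1 : ∑ k ∈ range (2 * d), wt s t k * u ((k + 1) / 2) ^ 2 =
      (1 + 1 / (t : ℝ)) * ∑ j ∈ range d, wv φ β j ^ 2 := by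
    rw [sum_two_mul]
    have e1 : ∀ j, wt s t (2 * j) * u ((2 * j + 1) / 2) ^ 2 = wv φ β j ^ 2 := fun j => by
      rw [wt, show 2 * j / 2 = j by omega, show 2 * j % 2 = 0 by omega, show (2 * j + 1) / 2 = j by omega, hu,
        ← hr2, ← sq, ← pow_mul, div_pow, ← pow_mul, Nat.mul_comm 2 j]
      field_simp
    have e2 : ∀ j, wt s t (2 * j + 1) * u ((2 * j + 1 + 1) / 2) ^ 2 = 1 / (t : ℝ) * wv φ β (j + 1) ^ 2 := fun j => by
      rw [wt, show (2 * j + 1) / 2 = j by omega, show (2 * j + 1) % 2 = 1 by omega,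
        show (2 * j + 1 + 1) / 2 = j + 1 by omega, hu, ← hr2, ← sq, ← pow_mul, div_pow, ← pow_mul,
        pow_one, show (j + 1) * 2 = 2 * j + 2 by ring, pow_add]
      field_simp
      linear_combination (-wv φ β (j + 1) ^ 2) * hr2
    simp only [e1, e2, ← mul_sum]
    have h := (sum_range_succ' (fun j => wv φ β j ^ 2) d).symm.trans (sum_range_succ _ d)
    rw [hwd, wv_zero, cos_nat_mul_pi, ← pow_mul, Nat.mul_comm i 2, pow_mul, neg_one_sq] at h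
    simp only [one_pow] at h
    rw [add_right_cancel h]
    ring
  have h2 : ∑ j ∈ range d, wv φ β j ^ 2 = (d : ℝ) * (1 + β ^ 2) / 2 := by
    obtain ⟨hc, hs'⟩ := trig_sums φ d
    have e : (2 * (d : ℝ) - 1) * φ = ((i : ℕ) : ℝ) * (2 * π) - φ := by linear_combination 2 * hdφ
    rw [e, sin_sub, sin_nat_mul_two_pi' i, cos_nat_mul_two_pi] at hc
    rw [e, cos_sub, sin_nat_mul_two_pi' i, cos_nat_mul_two_pi] at hs'
    have hc0 : ∑ j ∈ range d, cos (2 * ((j : ℝ) * φ)) = 0 := by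
      have : 2 * sin φ * ∑ j ∈ range d, cos (2 * ((j : ℝ) * φ)) = 0 := by rw [hc]; ring
      simpa [hsin.ne'] using this
    have hs0' : ∑ j ∈ range d, sin (2 * ((j : ℝ) * φ)) = 0 := by
      have : 2 * sin φ * ∑ j ∈ range d, sin (2 * ((j : ℝ) * φ)) = 0 := by rw [hs']; ring
      simpa [hsin.ne'] using this
    rw [sum_wv_sq, hc0, hs0']; ring
  rw [h1, h2] at hsum
  have hβQ : β ^ 2 ∈ Qr := by
    have e : β ^ 2 = (1 + 1 / (t : ℝ)) * ((d : ℝ) * (1 + β ^ 2) / 2) / ((1 + 1 / (t : ℝ)) * (d / 2)) - 1 := by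
      field_simp; ring
    rw [e]
    refine sub_mem (div_mem hsum (mul_mem (add_mem (one_mem _) (div_mem (one_mem _) (natCast_mem _ _)))
      (div_mem (natCast_mem _ _) (by exact_mod_cast natCast_mem Qr 2)))) (one_mem _)
  refine ⟨β ^ 2 * (1 + t) ^ 2, mul_mem hβQ (pow_mem (add_mem (one_mem _) (natCast_mem _ _)) _), by positivity, ?_⟩
  have e1 : β * sin φ * (r * (1 + (t : ℝ))) = ((t : ℝ) - 1) * (r * cos φ) + t * ((s : ℝ) - 1) := by
    rw [hβ, hθ]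
    field_simp
    linear_combination ((s : ℝ) - 1 + 2 * r * cos φ) * hr2
  rw [← e1]
  linear_combination (β ^ 2 * (1 + (t : ℝ)) ^ 2 * r ^ 2) * sin_sq_add_cos_sq φ +
    (β ^ 2 * (1 + (t : ℝ)) ^ 2) * hr2

theorem cos_angle_rat {m : ℕ} (hm : 2 ≤ m) (h : cos (2 * π / m) ∈ Qr) :
    m = 2 ∨ m = 3 ∨ m = 4 ∨ m = 6 := by
  obtain ⟨q, hq⟩ := mem_Qr.mp h
  have hm0 : (0 : ℝ) < m := by exact_mod_cast (by omega : 0 < m)
  have hm2 : (2 : ℝ) ≤ m := by exact_mod_cast hm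
  have hcases := niven_angle_eq (θ := 2 * π / m) ⟨2 / m, by push_cast; ring⟩ ⟨q, hq⟩
    ⟨by positivity, by rw [div_le_iff₀ hm0]; nlinarith [pi_pos]⟩
  simp only [Set.mem_insert_iff, Set.mem_singleton_iff] at hcases
  have key : ∀ n : ℕ, (m : ℝ) = n → m = n := fun n hn => by exact_mod_cast hn
  rcases hcases with h0 | h0 | h0 | h0 | h0
  · exact absurd h0 (by positivity)
  · refine Or.inr (Or.inr (Or.inr (key 6 ?_)))
    field_simp at h0
    push_cast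
    linarith
  · refine Or.inr (Or.inr (Or.inl (key 4 ?_)))
    field_simp at h0
    push_cast
    linarith
  · refine Or.inr (Or.inl (key 3 ?_))
    field_simp at h0
    push_cast
    linarith
  · refine Or.inl (key 2 ?_)
    field_simp at h0
    push_cast
    linarith

theorem even_bound {d : ℕ} {s t : ℕ} (hs : 2 ≤ s) (ht : 2 ≤ t) (hd : 1 ≤ d)
    (key : ∀ (θ : ℝ) (u : ℕ → ℝ), u 0 = 1 → (∀ j ≤ 2 * d / 2, rec' (2 * d) s t u j = θ * u j) →
      ∑ k ∈ range (2 * d), wt s t k * u ((k + 1) / 2) ^ 2 ∈ Qr) :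
    d = 1 ∨ d = 2 ∨ d = 3 ∨ d = 4 := by
  have hd0 : (0 : ℝ) < d := by exact_mod_cast hd
  have hs2 : (2 : ℝ) ≤ s := by exact_mod_cast hs
  have ht2 : (2 : ℝ) ≤ t := by exact_mod_cast ht
  have hst : (0 : ℝ) ≤ (s : ℝ) * t := by positivity
  have hy : ∀ i, 0 < i → i < d → √((s : ℝ) * t) * cos ((i : ℝ) * π / d) ∈ Qr := by
    intro i hi hi'
    obtain ⟨Q, hQ, hQ0, hQe⟩ := rat_relation_even hs ht hd key hi hi'
    obtain ⟨Q', hQ', hQ0', hQe'⟩ := rat_relation_even hs ht hd key (show 0 < d - i by omega) (by omega)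
    rw [Nat.cast_sub hi'.le, show ((d : ℝ) - i) * π / d = π - i * π / d by field_simp, cos_pi_sub] at hQe'
    obtain ⟨y, hy⟩ : ∃ y, y = √((s : ℝ) * t) * cos ((i : ℝ) * π / d) := ⟨_, rfl⟩
    rw [← hy] at hQe ⊢
    rw [mul_neg, ← hy] at hQe'
    have hs' : (s : ℝ) ∈ Qr := natCast_mem _ _
    have ht' : (t : ℝ) ∈ Qr := natCast_mem _ _
    have hA : 0 < 2 * ((t : ℝ) - 1) ^ 2 + Q + Q' := by nlinarith
    have hy2 : y ^ 2 = ((Q + Q') * ((s : ℝ) * t) - 2 * ((t : ℝ) * ((s : ℝ) - 1)) ^ 2) /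
        (2 * ((t : ℝ) - 1) ^ 2 + Q + Q') := by
      rw [eq_div_iff hA.ne']
      linear_combination hQe + hQe'
    have hy2Q : y ^ 2 ∈ Qr := by
      rw [hy2]
      have h2 : (2 : ℝ) ∈ Qr := by exact_mod_cast natCast_mem Qr 2
      exact div_mem (sub_mem (mul_mem (add_mem hQ hQ') (mul_mem hs' ht'))
        (mul_mem h2 (pow_mem (mul_mem ht' (sub_mem hs' (one_mem _))) _)))
        (add_mem (add_mem (mul_mem h2 (pow_mem (sub_mem ht' (one_mem _)) _)) hQ) hQ')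
    have hk : (0 : ℝ) < 2 * ((t : ℝ) - 1) * (t * ((s : ℝ) - 1)) :=
      mul_pos (mul_pos two_pos (by linarith)) (mul_pos (by linarith) (by linarith))
    have hyl : y = (Q * ((s : ℝ) * t - y ^ 2) - ((t : ℝ) - 1) ^ 2 * y ^ 2 - ((t : ℝ) * ((s : ℝ) - 1)) ^ 2) /
        (2 * ((t : ℝ) - 1) * (t * ((s : ℝ) - 1))) := by
      rw [eq_div_iff hk.ne']
      linear_combination hQe
    rw [hyl]
    have h2 : (2 : ℝ) ∈ Qr := by exact_mod_cast natCast_mem Qr 2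
    exact div_mem (sub_mem (sub_mem (mul_mem hQ (sub_mem (mul_mem hs' ht') hy2Q))
      (mul_mem (pow_mem (sub_mem ht' (one_mem _)) _) hy2Q)) (pow_mem (mul_mem ht' (sub_mem hs' (one_mem _))) _))
      (mul_mem (mul_mem h2 (sub_mem ht' (one_mem _))) (mul_mem ht' (sub_mem hs' (one_mem _))))
  by_contra hbad
  push Not at hbad
  have hst0 : (0 : ℝ) < (s : ℝ) * t := by positivity
  have h1 := hy 1 one_pos (by omega)
  have hc : cos (2 * π / d) ∈ Qr := by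
    rw [show 2 * π / (d : ℝ) = 2 * (((1 : ℕ) : ℝ) * π / d) by push_cast; ring, cos_two_mul,
      show cos (((1 : ℕ) : ℝ) * π / d) ^ 2 = (√((s : ℝ) * t) * cos (((1 : ℕ) : ℝ) * π / d)) ^ 2 / ((s : ℝ) * t) by
        rw [mul_pow, Real.sq_sqrt hst]; field_simp]
    exact sub_mem (mul_mem (by exact_mod_cast natCast_mem Qr 2)
      (div_mem (pow_mem h1 _) (mul_mem (natCast_mem _ _) (natCast_mem _ _)))) (one_mem _)
  rcases cos_angle_rat (by omega) hc with hd' | hd' | hd' | hd' <;> try omega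
  subst hd'
  have h2 := hy 2 two_pos (by omega)
  have h3 := div_mem h1 h2
  rw [mul_div_mul_left _ _ (Real.sqrt_pos.mpr hst0).ne',
    show ((1 : ℕ) : ℝ) * π / ((6 : ℕ) : ℝ) = π / 6 by push_cast; ring,
    show ((2 : ℕ) : ℝ) * π / ((6 : ℕ) : ℝ) = π / 3 by push_cast; ring, cos_pi_div_six, cos_pi_div_three] at h3
  obtain ⟨q, hq⟩ := mem_Qr.mp h3
  have hirr := Nat.prime_three.irrational_sqrt
  refine hirr ⟨q, ?_⟩
  rw [← hq]; push_cast; field_simp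

theorem odd_bound {d : ℕ} {s : ℕ} (hs : 2 ≤ s) (hd : 1 ≤ d)
    (key : ∀ (θ : ℝ) (u : ℕ → ℝ), u 0 = 1 →
      (∀ j ≤ (2 * d + 1) / 2, rec' (2 * d + 1) s s u j = θ * u j) →
      ∑ k ∈ range (2 * d + 1), wt s s k * u ((k + 1) / 2) ^ 2 ∈ Qr) :
    d = 1 := by
  obtain ⟨φ, hφ⟩ : ∃ φ, φ = 2 * π / (2 * d + 1 : ℕ) := ⟨_, rfl⟩
  have hs0 : (0 : ℝ) < s := by exact_mod_cast (by omega : 0 < s)
  have hs1 : (0 : ℝ) < (s : ℝ) - 1 := by
    have : (2 : ℝ) ≤ s := by exact_mod_cast hs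
    linarith
  have hm0 : (0 : ℝ) < (2 * d + 1 : ℕ) := by positivity
  have hsin : 0 < sin φ := by
    refine sin_pos_of_pos_of_lt_pi (by rw [hφ]; positivity) ?_
    rw [hφ, div_lt_iff₀ hm0]
    have : (3 : ℝ) ≤ ((2 * d + 1 : ℕ) : ℝ) := by exact_mod_cast (by omega : 3 ≤ 2 * d + 1)
    nlinarith [pi_pos]
  have hmφ : ((2 * d + 1 : ℕ) : ℝ) * φ = 2 * π := by rw [hφ]; field_simp
  push_cast at hmφ
  obtain ⟨β, hβ⟩ : ∃ β, β = ((s : ℝ) - 1) * (1 + cos φ) / (((s : ℝ) + 1) * sin φ) := ⟨_, rfl⟩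
  have hβs : β * sin φ * ((s : ℝ) + 1) = ((s : ℝ) - 1) * (1 + cos φ) := by rw [hβ]; field_simp
  have hflip : sin φ * cos (d * φ) + (1 + cos φ) * sin (d * φ) = 0 := by
    have h : sin ((d : ℝ) * φ + φ) = - sin ((d : ℝ) * φ) := by
      rw [show (d : ℝ) * φ + φ = 2 * π - d * φ by linarith, sin_two_pi_sub]
    rw [sin_add] at h
    linarith
  have hflipc : cos ((d : ℝ) * φ) * cos φ - sin (d * φ) * sin φ = cos ((d : ℝ) * φ) := by
    rw [← cos_add, show (d : ℝ) * φ + φ = 2 * π - d * φ by linarith, cos_two_pi_sub]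
  obtain ⟨u, hu⟩ : ∃ u : ℕ → ℝ, u = fun j => wv φ β j / (s : ℝ) ^ j := ⟨_, rfl⟩
  obtain ⟨θ, hθ⟩ : ∃ θ, θ = (s : ℝ) - 1 + 2 * s * cos φ := ⟨_, rfl⟩
  have hwd : wv φ β (d + 1) = s * wv φ β d := by
    have hd1 : sin ((d : ℝ) * φ + φ) = - sin ((d : ℝ) * φ) := by
      rw [show (d : ℝ) * φ + φ = 2 * π - d * φ by linarith, sin_two_pi_sub]
    have hd2 : cos ((d : ℝ) * φ + φ) = cos ((d : ℝ) * φ) := by
      rw [show (d : ℝ) * φ + φ = 2 * π - d * φ by linarith, cos_two_pi_sub]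
    rw [wv, wv, show (((d + 1 : ℕ)) : ℝ) * φ = (d : ℝ) * φ + φ by push_cast; ring, hd1, hd2]
    apply mul_left_cancel₀ hsin.ne'
    linear_combination (-sin ((d : ℝ) * φ)) * hβs - ((s : ℝ) - 1) * hflip
  have hrec : ∀ j ≤ (2 * d + 1) / 2, rec' (2 * d + 1) s s u j = θ * u j := by
    intro j hj
    have hd2 : (2 * d + 1) / 2 = d := by omega
    rw [hd2] at hj
    unfold rec'
    simp only [hd2, hu, Nat.not_even_iff_odd.mpr (odd_two_mul_add_one d), if_false]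
    rcases Nat.eq_zero_or_pos j with rfl | hj0
    · rw [if_pos rfl, wv_one, wv_zero, hθ]
      field_simp
      linear_combination hβs
    obtain ⟨j, rfl⟩ : ∃ k, j = k + 1 := ⟨j - 1, by omega⟩
    rw [if_neg (by omega), show j + 1 - 1 = j by omega, hθ]
    rcases Nat.lt_or_eq_of_le hj with hlt | heq
    · rw [if_pos hlt]
      exact sol_interior hs0.ne' rfl j
    · rw [if_neg (by omega), ← heq]
      have h := sol_interior (φ := φ) (β := β) hs0.ne' (rfl : (s : ℝ) * s = s * s) j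
      rw [← heq] at hwd
      rw [hwd, pow_succ (s : ℝ) (j + 1)] at h
      rw [← h]
      field_simp
  have hsum := key θ u (by simp [hu, wv_zero]) hrec
  have h1 : ∑ k ∈ range (2 * d + 1), wt s s k * u ((k + 1) / 2) ^ 2 =
      (1 + 1 / (s : ℝ)) * ∑ j ∈ range (d + 1), wv φ β j ^ 2 - 1 / (s : ℝ) := by
    rw [sum_range_succ, sum_two_mul]
    have e1 : ∀ j, wt s s (2 * j) * u ((2 * j + 1) / 2) ^ 2 = wv φ β j ^ 2 := fun j => by
      rw [wt, show 2 * j / 2 = j by omega, show 2 * j % 2 = 0 by omega, show (2 * j + 1) / 2 = j by omega, hu,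
        ← sq, ← pow_mul, div_pow, ← pow_mul, Nat.mul_comm 2 j]
      field_simp
    have e2 : ∀ j, wt s s (2 * j + 1) * u ((2 * j + 1 + 1) / 2) ^ 2 = 1 / (s : ℝ) * wv φ β (j + 1) ^ 2 := fun j => by
      rw [wt, show (2 * j + 1) / 2 = j by omega, show (2 * j + 1) % 2 = 1 by omega,
        show (2 * j + 1 + 1) / 2 = j + 1 by omega, hu, ← sq, ← pow_mul, div_pow, ← pow_mul,
        pow_one, show (j + 1) * 2 = 2 * j + 2 by ring, pow_add]
      field_simp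
    simp only [e1, e2, ← mul_sum]
    rw [add_right_comm, ← sum_range_succ (fun j => wv φ β j ^ 2) d,
      sum_range_succ' (fun j => wv φ β j ^ 2) d, wv_zero]
    ring
  obtain ⟨hc, hs'⟩ := trig_sums φ (d + 1)
  have e : (2 * ((d + 1 : ℕ) : ℝ) - 1) * φ = 2 * π := by push_cast; linarith
  rw [e, sin_two_pi, zero_add] at hc
  rw [e, cos_two_pi] at hs'
  have hc0 : ∑ j ∈ range (d + 1), cos (2 * ((j : ℝ) * φ)) = 1 / 2 := by
    apply mul_left_cancel₀ (mul_ne_zero two_ne_zero hsin.ne')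
    rw [hc]; ring
  have hbS : β * ∑ j ∈ range (d + 1), sin (2 * ((j : ℝ) * φ)) = -((s : ℝ) - 1) / (2 * ((s : ℝ) + 1)) := by
    apply mul_left_cancel₀ (mul_ne_zero two_ne_zero hsin.ne')
    rw [mul_left_comm, hs', hβ]
    field_simp
    linear_combination sin_sq_add_cos_sq φ
  rw [h1, sum_wv_sq, hc0, hbS] at hsum
  obtain ⟨X, hX⟩ : ∃ X, X = (1 + 1 / (s : ℝ)) * (((d + 1 : ℕ) : ℝ) * (1 + β ^ 2) / 2 + (1 - β ^ 2) / 2 * (1 / 2) +
    -((s : ℝ) - 1) / (2 * ((s : ℝ) + 1))) - 1 / (s : ℝ) := ⟨_, rfl⟩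
  rw [← hX] at hsum
  have h2 : (2 : ℝ) ∈ Qr := by exact_mod_cast natCast_mem Qr 2
  have h4 : (4 : ℝ) ∈ Qr := by exact_mod_cast natCast_mem Qr 4
  have hs' : (s : ℝ) ∈ Qr := natCast_mem _ _
  have hd' : (d : ℝ) ∈ Qr := natCast_mem _ _
  have hβ2 : β ^ 2 ∈ Qr := by
    have e : β ^ 2 = ((X + 1 / (s : ℝ)) / (1 + 1 / (s : ℝ)) - ((d : ℝ) + 1) / 2 - 1 / 4 +
        ((s : ℝ) - 1) / (2 * ((s : ℝ) + 1))) * 4 / (2 * d + 1) := by
      rw [hX]; push_cast; field_simp; ring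
    rw [e]
    exact div_mem (mul_mem (add_mem (sub_mem (sub_mem (div_mem (add_mem hsum (div_mem (one_mem _) hs'))
      (add_mem (one_mem _) (div_mem (one_mem _) hs'))) (div_mem (add_mem hd' (one_mem _)) h2))
      (div_mem (one_mem _) h4)) (div_mem (sub_mem hs' (one_mem _)) (mul_mem h2 (add_mem hs' (one_mem _))))) h4)
      (add_mem (mul_mem h2 hd') (one_mem _))
  have hcos : cos φ ∈ Qr := by
    have hne : β ^ 2 * ((s : ℝ) + 1) ^ 2 + ((s : ℝ) - 1) ^ 2 ≠ 0 := by positivity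
    have e : cos φ = (β ^ 2 * ((s : ℝ) + 1) ^ 2 - ((s : ℝ) - 1) ^ 2) /
        (β ^ 2 * ((s : ℝ) + 1) ^ 2 + ((s : ℝ) - 1) ^ 2) := by
      rw [eq_div_iff hne, hβ]
      field_simp
      linear_combination (1 + cos φ) * sin_sq_add_cos_sq φ
    rw [e]
    exact div_mem (sub_mem (mul_mem hβ2 (pow_mem (add_mem hs' (one_mem _)) _)) (pow_mem (sub_mem hs' (one_mem _)) _))
      (add_mem (mul_mem hβ2 (pow_mem (add_mem hs' (one_mem _)) _)) (pow_mem (sub_mem hs' (one_mem _)) _))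
  rw [hφ] at hcos
  rcases cos_angle_rat (by omega) hcos with h | h | h | h <;> omega

end Cfsg.Agent.BN.Gon
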