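import Cfsg.Agent.Lib.BN.Basic

/-! Hecke operators of a (B,N)-pair on bi-invariant functions. -/

set_option linter.style.haveILetI false
set_option autoImplicit false

namespace Cfsg.Agent.BN.Hecke

variable {G : Type*} [Group G] (P : Cfsg.BNPair G)

/-- The Bruhat cell of an element. -/
noncomputable def cell (x : G) : W P := (exists_mem_C P x).choose

theorem mem_cell (x : G) : x ∈ C P (cell P x) := (exists_mem_C P x).choose_spec

theorem cell_eq {x : G} {w : W P} (h : x ∈ C P w) : cell P x = w := C_inj P (mem_cell P x) h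

theorem cell_left {b : G} (hb : b ∈ P.B) (x : G) : cell P (b * x) = cell P x :=
  cell_eq P (mul_mem_C_left P hb (mem_cell P x))

theorem cell_right {b : G} (hb : b ∈ P.B) (x : G) : cell P (x * b) = cell P x :=
  cell_eq P (mul_mem_C_right P hb (mem_cell P x))

theorem cell_inv (x : G) : cell P x⁻¹ = (cell P x)⁻¹ := cell_eq P (inv_mem_C P (mem_cell P x))

theorem cell_one : cell P (1 : G) = 1 := cell_eq P ((mem_C_one_iff P).mpr P.B.one_mem)

/-- Bi-invariance under `B`. -/
def Bi (H : G → ℝ) : Prop := ∀ b ∈ P.B, ∀ x, H (b * x) = H x ∧ H (x * b) = H x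

/-- The function constant on Bruhat cells. -/
noncomputable def lift (φ : W P → ℝ) : G → ℝ := fun x => φ (cell P x)

theorem lift_bi (φ : W P → ℝ) : Bi P (lift P φ) := fun b hb x =>
  ⟨congrArg φ (cell_left P hb x), congrArg φ (cell_right P hb x)⟩

theorem bi_eq_lift {H : G → ℝ} (hH : Bi P H) :
    H = lift P fun w => H (QuotientGroup.mk_surjective w).choose := by
  funext x
  have hx := mem_cell P x
  have hn := (QuotientGroup.mk_surjective (cell P x)).choose_spec
  show H x = H (QuotientGroup.mk_surjective (cell P x)).choose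
  generalize (QuotientGroup.mk_surjective (cell P x)).choose = n at hn ⊢
  rw [← hn, C_eq_doubleCoset, DoubleCoset.mem_doubleCoset] at hx
  obtain ⟨b, hb, b', hb', e⟩ := hx
  rw [e, (hH b' hb' _).2, (hH b hb _).1]

theorem out_mul (y : G) : ∃ b ∈ P.B, ((y : G ⧸ P.B)).out = y * b := by
  obtain ⟨b, hb⟩ := QuotientGroup.mk_out_eq_mul P.B y
  exact ⟨b, b.2, hb⟩

/-- Left translation of cosets, read on representatives. -/
theorem out_smul (g : G) (y : G ⧸ P.B) : ∃ b ∈ P.B, (g • y).out = g * y.out * b := by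
  obtain ⟨b, hb, e⟩ := out_mul P (g * y.out)
  refine ⟨b, hb, ?_⟩
  rw [← e]
  congr 1
  conv_lhs => rw [← y.out_eq']
  rfl

theorem lift_out (φ : W P → ℝ) (g : G) : lift P φ ((g : G ⧸ P.B).out) = lift P φ g := by
  obtain ⟨b, hb, e⟩ := out_mul P g
  rw [e, (lift_bi P φ b hb g).2]

section
variable [Fintype (G ⧸ P.B)]

open Classical in
/-- The cosets in the cell of `w`. -/
noncomputable def cosets (w : W P) : Finset (G ⧸ P.B) :=
  Finset.univ.filter fun y => y.out ∈ C P w

theorem mem_cosets {w : W P} {y : G ⧸ P.B} : y ∈ cosets P w ↔ cell P y.out = w := by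
  simp only [cosets, Finset.mem_filter, Finset.mem_univ, true_and]
  exact ⟨cell_eq P, fun h => h ▸ mem_cell P _⟩

/-- The operator of a generator. -/
noncomputable def T (s : P.S) (H : G → ℝ) : G → ℝ := fun x =>
  ∑ y ∈ cosets P (g P s), H (y.out⁻¹ * x)

/-- The number of cosets in a generating cell. -/
noncomputable def q (s : P.S) : ℝ := (cosets P (g P s)).card

open Classical in
/-- The operator of a generator on functions on `W`. -/
noncomputable def Tw (s : P.S) (φ : W P → ℝ) (w : W P) : ℝ :=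
  if len P w < len P (g P s * w) then q P s * φ (g P s * w)
  else φ (g P s * w) + (q P s - 1) * φ w

theorem T_lift (s : P.S) (φ : W P → ℝ) : T P s (lift P φ) = lift P (Tw P s φ) := by
  classical
  funext x
  show ∑ y ∈ cosets P (g P s), φ (cell P (y.out⁻¹ * x)) = Tw P s φ (cell P x)
  obtain ⟨w, hw⟩ : ∃ w, w = cell P x := ⟨_, rfl⟩
  have hx : x ∈ C P w := hw ▸ mem_cell P x
  have hinv : ∀ y ∈ cosets P (g P s), y.out⁻¹ ∈ C P (g P s) := fun y hy => by
    have := inv_mem_C P (mem_cell P y.out)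
    rwa [(mem_cosets P).mp hy, g_inv] at this
  rw [← hw]
  unfold Tw
  split_ifs with hlt
  · rw [Finset.sum_congr rfl fun y hy => by rw [cell_eq P (g_mul_C_of_le P hlt.le (hinv y hy) hx)]]
    rw [Finset.sum_const, nsmul_eq_mul]
    rfl
  · have hlt' : len P (g P s * w) < len P (g P s * (g P s * w)) := by
      have := len_g_mul_ne P s w
      rw [g_mul_cancel]; omega
    obtain ⟨y₁, hy₁, z, hz, rfl⟩ := C_split P (a := g P s) (c := g P s * w) (x := x) (by rwa [g_mul_cancel])
    obtain ⟨b, hb, hb'⟩ := out_mul P y₁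
    have hy₀ : ((y₁ : G ⧸ P.B)) ∈ cosets P (g P s) := by
      rw [mem_cosets, hb', cell_right P hb]
      exact cell_eq P hy₁
    rw [← Finset.add_sum_erase _ _ hy₀]
    congr 1
    · rw [hb', show (y₁ * b)⁻¹ * (y₁ * z) = b⁻¹ * z by group, cell_left P (inv_mem hb), cell_eq P hz]
    · rw [Finset.sum_congr rfl (g := fun _ => φ w), Finset.sum_const, Finset.card_erase_of_mem hy₀,
        nsmul_eq_mul, Nat.cast_sub (Finset.one_le_card.mpr ⟨_, hy₀⟩), Nat.cast_one]
      · rfl
      · intro y hy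
        obtain ⟨hne, hy⟩ := Finset.mem_erase.mp hy
        rcases g_mul_C P (hinv y hy) hy₁ with h | h
        · rw [g_mul_self, mem_C_one_iff] at h
          exact absurd (by rw [← y.out_eq']; exact QuotientGroup.eq.mpr h) hne
        · congr 1
          rw [← mul_assoc]
          have := g_mul_C_of_le P hlt'.le h hz
          rw [g_mul_cancel] at this
          exact cell_eq P this

/-- Convolution. -/
noncomputable def cv (F H : G → ℝ) : G → ℝ := fun x => ∑ y : G ⧸ P.B, F y.out * H (y.out⁻¹ * x)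

theorem cv_left (F H : G → ℝ) (hF : ∀ b ∈ P.B, ∀ x, F (x * b) = F x) (hH : ∀ b ∈ P.B, ∀ x, H (b * x) = H x)
    {z : G} (hz : ∀ x, F (z * x) = F x) (x : G) : cv P F H (z * x) = cv P F H x := by
  unfold cv
  refine (Fintype.sum_equiv (MulAction.toPerm z : Equiv.Perm (G ⧸ P.B)) _ _ fun y => ?_).symm
  obtain ⟨b, hb, e⟩ := out_smul P z y
  show F y.out * H (y.out⁻¹ * x) = F (z • y).out * H ((z • y).out⁻¹ * (z * x))
  rw [e, hF b hb, hz, show (z * y.out * b)⁻¹ * (z * x) = b⁻¹ * (y.out⁻¹ * x) by group,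
    hH _ (inv_mem hb)]

theorem cv_right (F H : G → ℝ) {z : G} (hz : ∀ x, H (x * z) = H x) (x : G) :
    cv P F H (x * z) = cv P F H x := by
  unfold cv
  simp only [← mul_assoc, hz]

theorem cv_bi {F H : G → ℝ} (hF : Bi P F) (hH : Bi P H) : Bi P (cv P F H) := fun b hb x =>
  ⟨cv_left P F H (fun b hb x => (hF b hb x).2) (fun b hb x => (hH b hb x).1) (fun x => (hF b hb x).1) x,
    cv_right P F H (fun x => (hH b hb x).2) x⟩

theorem T_cv (s : P.S) {F H : G → ℝ} (hF : Bi P F) (hH : Bi P H) :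
    T P s (cv P F H) = cv P (T P s F) H := by
  funext x
  unfold T cv
  simp only [Finset.sum_mul]
  conv_rhs => rw [Finset.sum_comm]
  refine Finset.sum_congr rfl fun h _ => Fintype.sum_equiv (MulAction.toPerm h.out : Equiv.Perm (G ⧸ P.B)) _ _ fun y => ?_
  obtain ⟨b, hb, e⟩ := out_smul P h.out y
  show F y.out * H (y.out⁻¹ * (h.out⁻¹ * x)) = F (h.out⁻¹ * (h.out • y).out) * H ((h.out • y).out⁻¹ * x)
  rw [e, show h.out⁻¹ * (h.out * y.out * b) = y.out * b by group, (hF b hb _).2,
    show (h.out * y.out * b)⁻¹ * x = b⁻¹ * (y.out⁻¹ * (h.out⁻¹ * x)) by group, (hH _ (inv_mem hb) _).1]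

/-- The number of cosets in a cell. -/
noncomputable def cnt (w : W P) : ℝ := (cosets P w).card

theorem cnt_one : cnt P (1 : W P) = 1 := by
  have : cosets P (1 : W P) = {((1 : G) : G ⧸ P.B)} := by
    ext y
    rw [mem_cosets, Finset.mem_singleton]
    constructor
    · intro h
      have h' := mem_cell P y.out
      rw [h, mem_C_one_iff] at h'
      rw [← y.out_eq']
      exact QuotientGroup.eq.mpr (by simpa using inv_mem h')
    · rintro rfl
      obtain ⟨b, hb, e⟩ := out_mul P (1 : G)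
      rw [e, cell_right P hb, cell_one]
  rw [cnt, this, Finset.card_singleton, Nat.cast_one]

theorem cnt_g_mul (s : P.S) {w : W P} (hlt : len P w < len P (g P s * w)) :
    cnt P (g P s * w) = q P s * cnt P w := by
  classical
  have h1 : Tw P s (fun v => if v = w then 1 else 0) = fun v => if v = g P s * w then 1 else 0 := by
    funext v
    unfold Tw
    have hne : g P s * w ≠ w := fun e => g_ne_one P s (mul_eq_right.mp e)
    by_cases hv : v = g P s * w
    · subst hv
      rw [g_mul_cancel, if_neg (by omega)]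
      simp [hne]
    · have hv' : g P s * v ≠ w := fun e => hv (by rw [← e, g_mul_cancel])
      simp only [if_neg hv', if_neg hv, mul_zero, zero_add]
      by_cases hvw : v = w
      · subst hvw
        rw [if_pos hlt]
      · simp [hvw]
  have key : ∀ v, cnt P v = ∑ y : G ⧸ P.B, lift P (fun u => if u = v then (1 : ℝ) else 0) y.out := fun v => by
    rw [cnt, show cosets P v = Finset.univ.filter (fun y : G ⧸ P.B => cell P y.out = v) from
      Finset.ext fun y => by simp [mem_cosets], ← Finset.sum_boole]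
    rfl
  rw [key, key, ← h1, ← T_lift, q]
  unfold T
  rw [Finset.sum_comm, ← nsmul_eq_mul, ← Finset.sum_const]
  refine Finset.sum_congr rfl fun h _ => Fintype.sum_equiv (MulAction.toPerm h.out⁻¹ : Equiv.Perm (G ⧸ P.B)) _ _ fun y => ?_
  obtain ⟨b, hb, e⟩ := out_smul P h.out⁻¹ y
  show lift P _ (h.out⁻¹ * y.out) = lift P _ (h.out⁻¹ • y).out
  rw [e, (lift_bi P _ b hb _).2]

theorem two_le_q (s : P.S) : (2 : ℝ) ≤ q P s := by
  obtain ⟨x, hx, y, hy, hxy⟩ := exists_mem_C_gg P s
  rw [q, show (2 : ℝ) = ((2 : ℕ) : ℝ) by norm_num, Nat.cast_le]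
  have hmem : ∀ z, z ∈ C P (g P s) → (z : G ⧸ P.B) ∈ cosets P (g P s) := fun z hz => by
    obtain ⟨b, hb, e⟩ := out_mul P z
    rw [mem_cosets, e, cell_right P hb, cell_eq P hz]
  have hne : (x : G ⧸ P.B) ≠ ((x * y : G) : G ⧸ P.B) := fun e => by
    rw [QuotientGroup.eq, inv_mul_cancel_left] at e
    exact g_ne_one P s (C_inj P hy ((mem_C_one_iff P).mpr e))
  exact Finset.one_lt_card.mpr ⟨_, hmem x hx, _, hmem _ hxy, hne⟩

theorem cnt_pos (w : W P) : 0 < cnt P w := by
  obtain ⟨n, rfl⟩ := QuotientGroup.mk_surjective w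
  obtain ⟨b, hb, e⟩ := out_mul P (n : G)
  rw [cnt, Nat.cast_pos, Finset.card_pos]
  exact ⟨((n : G) : G ⧸ P.B), by rw [mem_cosets, e, cell_right P hb, cell_eq P (mem_C_coe P n)]⟩

/-- An idempotent from a self-reproducing bi-invariant function. -/
theorem exists_card_eq {F : G → ℝ} {S : ℝ} (hF : Bi P F) (hS : 0 < S) (h1 : F 1 = 1)
    (hcv : cv P F F = fun x => S * F x) : ∃ n : ℕ, (Nat.card (G ⧸ P.B) : ℝ) = n * S := by
  classical
  let A : Matrix (G ⧸ P.B) (G ⧸ P.B) ℝ := fun x z => S⁻¹ * F (x.out⁻¹ * z.out)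
  have hA : A * A = A := by
    ext x z
    rw [Matrix.mul_apply]
    have h2 := congrFun hcv (x.out⁻¹ * z.out)
    unfold cv at h2
    calc ∑ y, A x y * A y z = S⁻¹ * (S⁻¹ * ∑ y : G ⧸ P.B, F (x.out⁻¹ * y.out) * F (y.out⁻¹ * z.out)) := by
          rw [Finset.mul_sum, Finset.mul_sum]
          exact Finset.sum_congr rfl fun y _ => by simp only [A]; ring
      _ = S⁻¹ * (S⁻¹ * (S * F (x.out⁻¹ * z.out))) := by
          rw [← h2]
          congr 2
          refine Fintype.sum_equiv (MulAction.toPerm x.out⁻¹ : Equiv.Perm (G ⧸ P.B)) _ _ fun y => ?_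
          obtain ⟨b, hb, e⟩ := out_smul P x.out⁻¹ y
          show _ = F (x.out⁻¹ • y).out * F ((x.out⁻¹ • y).out⁻¹ * (x.out⁻¹ * z.out))
          rw [e, (hF b hb _).2, show (x.out⁻¹ * y.out * b)⁻¹ * (x.out⁻¹ * z.out) = b⁻¹ * (y.out⁻¹ * z.out)
            by group, (hF _ (inv_mem hb) _).1]
      _ = A x z := by simp only [A]; field_simp
  have hidem : IsIdempotentElem (Matrix.toLin' A) := by
    rw [IsIdempotentElem, Module.End.mul_eq_comp, ← Matrix.toLin'_mul, hA]
  have htr := (LinearMap.IsIdempotentElem.isProj_range _ hidem).trace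
  rw [Matrix.trace_toLin'_eq] at htr
  refine ⟨Module.finrank ℝ (LinearMap.range (Matrix.toLin' A)), ?_⟩
  rw [← htr, Matrix.trace]
  simp only [Matrix.diag, A, inv_mul_cancel, h1, mul_one, Finset.sum_const, Finset.card_univ, nsmul_eq_mul,
    Nat.card_eq_fintype_card]
  field_simp

end

end Cfsg.Agent.BN.Hecke
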