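import Cfsg.Agent.Lib.BN.Dihedral
import Cfsg.Agent.Lib.BN.Hecke
import Cfsg.Agent.Lib.BN.GonArith

/-! The Feit–Higman theorem for (B,N)-pairs of rank two. -/

set_option linter.style.haveILetI false
set_option autoImplicit false

namespace Cfsg.Agent.BN.Rank2

open Hecke Finset

variable {G : Type*} [Group G] [Finite G] {P : Cfsg.BNPair G} {a b : P.S} (h : Pair P a b)

/-- The position of `w` in the list of `⟨a⟩`-cosets. -/
noncomputable def kk (w : W P) : ℕ := (el_surj h w).choose

theorem kk_lt (w : W P) : kk h w < mm P a b := (el_surj h w).choose_spec.1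

theorem kk_spec (w : W P) : w = el P b a (kk h w) ∨ w = el P a b (kk h w + 1) :=
  (el_surj h w).choose_spec.2

theorem kk_b {k : ℕ} (hk : k < mm P a b) : kk h (el P b a k) = k := by
  have hlt := kk_lt h (el P b a k)
  have hm := mm_comm P a b
  rcases kk_spec h (el P b a k) with e | e
  · exact (el_inj_same h.symm (by omega) (by omega) e).symm
  · rcases el_inj_swap h (by omega) (by omega) e.symm with ⟨h1, -⟩ | ⟨-, h2⟩ <;> omega

theorem kk_a {k : ℕ} (hk : k < mm P a b) : kk h (el P a b (k + 1)) = k := by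
  have hlt := kk_lt h (el P a b (k + 1))
  rcases kk_spec h (el P a b (k + 1)) with e | e
  · rcases el_inj_swap h (by omega) (by omega) e with ⟨h1, -⟩ | ⟨-, h2⟩ <;> omega
  · have := el_inj_same h (by omega) (by omega) e
    omega

/-- The class of `w` modulo `⟨a⟩` on both sides. -/
noncomputable def cls (w : W P) : ℕ := (kk h w + 1) / 2

theorem cls_le (w : W P) : cls h w ≤ mm P a b / 2 := by
  have := kk_lt h w
  unfold cls; omega

theorem cls_a {j : ℕ} (hj : j ≤ mm P a b) : cls h (el P a b j) = j / 2 := by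
  rcases j with _ | j
  · rw [el_zero, ← el_zero P b a, cls, kk_b h (Nat.lt_of_lt_of_le Nat.two_pos (two_le_mm h))]
  · rw [cls, kk_a h (by omega)]

theorem cls_b {j : ℕ} (hj : j ≤ mm P a b) : cls h (el P b a j) = min ((j + 1) / 2) (mm P a b / 2) := by
  rcases Nat.lt_or_eq_of_le hj with hlt | heq
  · rw [cls, kk_b h hlt, Nat.min_eq_left (by omega)]
  · subst heq
    rw [← el_top (x := a) (y := b), cls_a h le_rfl, Nat.min_eq_right (by omega)]

theorem cls_left (w : W P) : cls h (g P a * w) = cls h w := by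
  obtain ⟨k, hk, e⟩ : ∃ k < mm P a b, w = el P b a k ∨ w = el P a b (k + 1) := ⟨_, kk_lt h w, kk_spec h w⟩
  rcases e with rfl | rfl
  · rw [← el_succ, cls, cls, kk_a h hk, kk_b h hk]
  · rw [el_succ, g_mul_cancel, ← el_succ, cls, cls, kk_a h hk, kk_b h hk]

theorem cls_inv (w : W P) : cls h w⁻¹ = cls h w := by
  obtain ⟨k, hk, e⟩ : ∃ k < mm P a b, w = el P b a k ∨ w = el P a b (k + 1) := ⟨_, kk_lt h w, kk_spec h w⟩
  rcases e with rfl | rfl
  · rcases Nat.even_or_odd' k with ⟨i, rfl | rfl⟩
    · rw [el_inv_even, cls_a h hk.le, cls_b h hk.le]; omega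
    · rw [el_inv_odd]
  · rcases Nat.even_or_odd' (k + 1) with ⟨i, e | e⟩
    · rw [e, el_inv_even, cls_b h (by omega), cls_a h (by omega)]; omega
    · rw [e, el_inv_odd]

theorem cls_right (w : W P) : cls h (w * g P a) = cls h w := by
  rw [← cls_inv h (w * g P a), mul_inv_rev, g_inv, cls_left, cls_inv]

variable [Fintype (G ⧸ P.B)]

/-- The operator of the point graph. -/
noncomputable def M (φ : W P → ℝ) (w : W P) : ℝ := Tw P a (Tw P b φ) w + Tw P b φ w

theorem M_cls (u : ℕ → ℝ) (w : W P) :
    M (a := a) (b := b) (fun v => u (cls h v)) w = Gon.rec' (mm P a b) (q P b) (q P a) u (cls h w) := by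
  have hm2 := two_le_mm h
  have hmc := mm_comm P a b
  obtain ⟨k, hk, hw⟩ : ∃ k < mm P a b, w = el P b a k ∨ w = el P a b (k + 1) := ⟨_, kk_lt h w, kk_spec h w⟩
  have lena : ∀ {j}, j ≤ mm P a b → len P (el P a b j) = j := fun hj => len_el h hj
  have lenb : ∀ {j}, j ≤ mm P a b → len P (el P b a j) = j := fun hj => len_el h.symm (hmc ▸ hj)
  obtain ⟨φ, hφ⟩ : ∃ φ : W P → ℝ, φ = fun v => u (cls h v) := ⟨_, rfl⟩
  rw [← hφ]
  have hG0 : Tw P b φ (el P b a k) =
      if k = 0 then q P b * u 1 else u ((k + 1) / 2 - 1) + (q P b - 1) * u ((k + 1) / 2) := by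
    rcases k with _ | k
    · rw [if_pos rfl, Tw]
      simp only [el_zero, mul_one]
      rw [if_pos (by rw [len_one, len_g]; omega), hφ]
      have h2 := cls_b h (j := 1) (by omega)
      rw [el_succ, el_zero, mul_one] at h2
      dsimp only
      rw [h2, Nat.min_eq_left (by omega)]
    · rw [if_neg (by omega), Tw]
      rw [el_succ P b a k, g_mul_cancel, if_neg (by rw [lena (by omega), ← el_succ, lenb (by omega)]; omega),
        hφ]
      dsimp only
      rw [cls_a h (by omega), ← el_succ, cls_b h (by omega), Nat.min_eq_left (by omega)]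
      congr 2
      omega
  have hG1 : Tw P b φ (el P a b (k + 1)) =
      if (k + 1) / 2 < mm P a b / 2 then q P b * u ((k + 1) / 2 + 1)
      else if Even (mm P a b) then u (mm P a b / 2 - 1) + (q P b - 1) * u (mm P a b / 2)
      else q P b * u (mm P a b / 2) := by
    rcases Nat.lt_or_eq_of_le (show k + 1 ≤ mm P a b from hk) with hlt | heq
    · rw [Tw, ← el_succ P b a (k + 1), if_pos (by rw [lena (by omega), lenb (by omega)]; omega), hφ]
      dsimp only
      rw [cls_b h (by omega)]
      split_ifs with h1 h2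
      · congr 2; omega
      · rw [Nat.even_iff] at h2; omega
      · congr 2; omega
    · have e : el P a b (k + 1) = g P b * el P a b k := by
        rw [heq, el_top (x := a) (y := b), ← heq, el_succ]
      rw [Tw, e, g_mul_cancel, if_neg (by rw [lena (by omega), ← e, lena (by omega)]; omega), hφ]
      dsimp only
      rw [← e, cls_a h (by omega), cls_a h (by omega)]
      split_ifs with h1 h2
      · omega
      · rw [Nat.even_iff] at h2
        rw [show k / 2 = mm P a b / 2 - 1 by omega, show (k + 1) / 2 = mm P a b / 2 by omega]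
      · rw [Nat.even_iff] at h2
        rw [show k / 2 = mm P a b / 2 by omega, show (k + 1) / 2 = mm P a b / 2 by omega]
        ring
  have hM : M (a := a) (b := b) φ w = q P a * Tw P b φ (el P a b (k + 1)) + Tw P b φ (el P b a k) := by
    rcases hw with rfl | rfl
    · rw [M, Tw, ← el_succ, if_pos (by rw [lena (by omega), lenb (by omega)]; omega)]
    · rw [M, Tw, show g P a * el P a b (k + 1) = el P b a k by rw [el_succ, g_mul_cancel],
        if_neg (by rw [lena (by omega), lenb (by omega)]; omega)]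
      ring
  have hc : cls h w = (k + 1) / 2 := by
    rcases hw with rfl | rfl
    · rw [cls_b h hk.le, Nat.min_eq_left (by omega)]
    · rw [cls_a h (by omega)]
  rw [hM, hG0, hG1, hc, Gon.rec']
  by_cases hk0 : k = 0
  · subst hk0
    rw [if_pos rfl, if_pos (by omega), if_pos (by omega)]
    ring
  · rw [if_neg hk0, if_neg (show (k + 1) / 2 ≠ 0 by omega)]
    ring

include h in
theorem key (θ : ℝ) (u : ℕ → ℝ) (hu0 : u 0 = 1)
    (hrec : ∀ j ≤ mm P a b / 2, Gon.rec' (mm P a b) (q P b) (q P a) u j = θ * u j) :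
    ∑ k ∈ range (mm P a b), Gon.wt (q P b) (q P a) k * u ((k + 1) / 2) ^ 2 ∈ Gon.Qr := by
  classical
  have hm2 := two_le_mm h
  have hmc := mm_comm P a b
  haveI := Fintype.ofFinite (W P)
  let F : G → ℝ := lift P fun w => u (cls h w)
  have hF : Bi P F := lift_bi P _
  have hFa : ∀ z ∈ C P (g P a), ∀ x, F (z * x) = F x ∧ F (x * z) = F x := by
    intro z hz x
    constructor
    · rcases g_mul_C P hz (mem_cell P x) with h1 | h1
      · show u (cls h (cell P (z * x))) = u (cls h (cell P x))
        rw [cell_eq P h1, cls_left]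
      · show u (cls h (cell P (z * x))) = u (cls h (cell P x))
        rw [cell_eq P h1]
    · rcases C_mul_g P (mem_cell P x) hz with h1 | h1
      · show u (cls h (cell P (x * z))) = u (cls h (cell P x))
        rw [cell_eq P h1, cls_right]
      · show u (cls h (cell P (x * z))) = u (cls h (cell P x))
        rw [cell_eq P h1]
  obtain ⟨ψ, hψ⟩ : ∃ ψ, cv P F F = lift P ψ := ⟨_, bi_eq_lift P (cv_bi P hF hF)⟩
  have hrep : ∀ (n : P.N), cv P F F n = ψ (cl P n) := fun n => by
    rw [hψ]; exact congrArg ψ (cell_eq P (mem_C_coe P n))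
  have hψl : ∀ w, ψ (g P a * w) = ψ w := by
    intro w
    obtain ⟨n, rfl⟩ := QuotientGroup.mk_surjective w
    rw [← hrep n, show g P a * cl P n = cl P (⟨a, P.subset a.2⟩ * n) from rfl, ← hrep, Subgroup.coe_mul]
    exact cv_left P F F (fun c hc x => (hF c hc x).2) (fun c hc x => (hF c hc x).1)
      (fun x => (hFa _ (g_mem_C P a) x).1) n
  have hψr : ∀ w, ψ (w * g P a) = ψ w := by
    intro w
    obtain ⟨n, rfl⟩ := QuotientGroup.mk_surjective w
    rw [← hrep n, show cl P n * g P a = cl P (n * ⟨a, P.subset a.2⟩) from rfl, ← hrep, Subgroup.coe_mul]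
    exact cv_right P F F (fun x => (hFa _ (g_mem_C P a) x).2) n
  have hM : ∀ w, M (a := a) (b := b) ψ w = θ * ψ w := by
    intro w
    obtain ⟨n, rfl⟩ := QuotientGroup.mk_surjective w
    have h1 : (fun x => Hecke.T P a (Hecke.T P b (cv P F F)) x + Hecke.T P b (cv P F F) x) =
        cv P (fun x => Hecke.T P a (Hecke.T P b F) x + Hecke.T P b F x) F := by
      rw [T_cv P b hF hF, T_cv P a (by simp only [F, T_lift]; exact lift_bi P _) hF]
      funext x
      simp only [cv, ← Finset.sum_add_distrib, add_mul]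
    have h2 : (fun x => Hecke.T P a (Hecke.T P b F) x + Hecke.T P b F x) = fun x => θ * F x := by
      simp only [F, T_lift]
      funext x
      exact (M_cls h u (cell P x)).trans (hrec _ (cls_le h _))
    rw [h2] at h1
    have h3 := congrFun h1 (n : G)
    rw [hψ] at h3
    simp only [T_lift] at h3
    rw [show ∀ φ : W P → ℝ, lift P φ (n : G) = φ (cl P n) from fun φ => congrArg φ (cell_eq P (mem_C_coe P n)),
      show ∀ φ : W P → ℝ, lift P φ (n : G) = φ (cl P n) from fun φ => congrArg φ (cell_eq P (mem_C_coe P n))] at h3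
    rw [M, h3, ← hrep n]
    show ∑ y : G ⧸ P.B, θ * F y.out * F (y.out⁻¹ * n) = θ * ∑ y : G ⧸ P.B, F y.out * F (y.out⁻¹ * n)
    rw [Finset.mul_sum]
    exact Finset.sum_congr rfl fun y _ => mul_assoc _ _ _
  obtain ⟨S, hS⟩ : ∃ S, S = ψ 1 := ⟨_, rfl⟩
  -- `ψ` factors through the classes
  obtain ⟨v, hv⟩ : ∃ v : ℕ → ℝ, v = fun j => ψ (el P b a (2 * j - 1)) := ⟨_, rfl⟩
  have hψv : ψ = fun w => v (cls h w) := by
    funext w
    obtain ⟨k, hk, e⟩ : ∃ k < mm P a b, w = el P b a k ∨ w = el P a b (k + 1) := ⟨_, kk_lt h w, kk_spec h w⟩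
    have hb : ψ (el P b a k) = v ((k + 1) / 2) := by
      rw [hv]
      rcases Nat.even_or_odd' k with ⟨i, rfl | rfl⟩
      · rcases i with _ | i
        · rfl
        · show _ = ψ (el P b a (2 * ((2 * (i + 1) + 1) / 2) - 1))
          rw [show 2 * ((2 * (i + 1) + 1) / 2) - 1 = 2 * i + 1 by omega,
            ← hψr (el P b a (2 * i + 1)), el_odd, el_even, pow_succ]
          simp [mul_assoc]
      · show _ = ψ (el P b a (2 * ((2 * i + 1 + 1) / 2) - 1))
        rw [show 2 * ((2 * i + 1 + 1) / 2) - 1 = 2 * i + 1 by omega]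
    rcases e with rfl | rfl
    · rw [hb, cls_b h hk.le, Nat.min_eq_left (by omega)]
    · rw [el_succ, hψl, hb, cls_left, cls_b h hk.le, Nat.min_eq_left (by omega)]
  have hvrec : ∀ j ≤ mm P a b / 2, Gon.rec' (mm P a b) (q P b) (q P a) v j = θ * v j := by
    intro j hj
    have hk : 2 * j - 1 ≤ mm P a b := by omega
    have hc : cls h (el P b a (2 * j - 1)) = j := by rw [cls_b h hk]; omega
    have := hM (el P b a (2 * j - 1))
    rw [hψv, M_cls, hc] at this
    simpa only [hc] using this
  have hv0 : v 0 = S := by rw [hv, hS]; rfl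
  have hqb : 0 < q P b := lt_of_lt_of_le two_pos (two_le_q P b)
  have hqa : 0 < q P a := lt_of_lt_of_le two_pos (two_le_q P a)
  have hvu : ∀ j, j ≤ mm P a b / 2 → v j = S * u j := by
    have hz : ∀ j, (j ≤ mm P a b / 2 → v j = S * u j) ∧ (j + 1 ≤ mm P a b / 2 → v (j + 1) = S * u (j + 1)) := by
      intro j
      induction j with
      | zero =>
        refine ⟨fun _ => by rw [hv0, hu0, mul_one], fun _ => ?_⟩
        have h1 := hvrec 0 (Nat.zero_le _)
        have h2 := hrec 0 (Nat.zero_le _)
        rw [Gon.rec', if_pos rfl] at h1 h2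
        apply mul_left_cancel₀ (mul_pos (add_pos one_pos hqa) hqb).ne'
        rw [hv0] at h1
        rw [hu0] at h2
        linear_combination h1 - S * h2
      | succ j ih =>
        refine ⟨ih.2, fun hj => ?_⟩
        have h1 := hvrec (j + 1) (by omega)
        have h2 := hrec (j + 1) (by omega)
        rw [Gon.rec', if_neg (by omega), if_pos (by omega), show j + 1 - 1 = j by omega, ih.1 (by omega),
          ih.2 (by omega)] at h1
        rw [Gon.rec', if_neg (by omega), if_pos (by omega), show j + 1 - 1 = j by omega] at h2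
        apply mul_left_cancel₀ (mul_pos hqa hqb).ne'
        linear_combination h1 - S * h2
    exact fun j => (hz j).1
  have hcv : cv P F F = fun x => S * F x := by
    rw [hψ, hψv]
    funext x
    exact hvu _ (cls_le h _)
  have hF1 : F 1 = 1 := by
    show u (cls h (cell P 1)) = 1
    rw [cell_one, show (1 : W P) = el P a b 0 from rfl, cls_a h (Nat.zero_le _), Nat.zero_div, hu0]
  have hFinv : ∀ x, F x⁻¹ = F x := fun x => by
    show u (cls h (cell P x⁻¹)) = u (cls h (cell P x))
    rw [cell_inv, cls_inv]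
  have hS1 : S = cv P F F 1 := by rw [hcv]; simp [hF1]
  have hsum : S = (1 + q P a) * ∑ k ∈ range (mm P a b), Gon.wt (q P b) (q P a) k * u ((k + 1) / 2) ^ 2 := by
    rw [hS1, cv]
    have e1 : ∑ y : G ⧸ P.B, F y.out * F (y.out⁻¹ * 1) = ∑ w : W P, cnt P w * u (cls h w) ^ 2 := by
      rw [← Finset.sum_fiberwise Finset.univ (fun y : G ⧸ P.B => cell P y.out)]
      refine Finset.sum_congr rfl fun w _ => ?_
      rw [Finset.sum_congr rfl (g := fun _ => u (cls h w) ^ 2) fun y hy => by
        rw [mul_one, hFinv, ← sq]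
        show u (cls h (cell P y.out)) ^ 2 = _
        rw [(Finset.mem_filter.mp hy).2], Finset.sum_const, nsmul_eq_mul, cnt]
      congr 3
      ext y; simp [mem_cosets]
    rw [e1, ← (Equiv.ofBijective _ (surj_bij h)).sum_comp, Fintype.sum_sum_type]
    simp only [Equiv.ofBijective_apply, Sum.elim_inl, Sum.elim_inr]
    have hcnt : ∀ k, k < mm P a b → cnt P (el P b a k) = Gon.wt (q P b) (q P a) k := by
      intro k
      induction k using Nat.strong_induction_on with
      | _ k ih =>
        intro hk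
        match k with
        | 0 => simp [cnt_one, Gon.wt]
        | 1 =>
          rw [el_succ, cnt_g_mul P b (by rw [← el_succ, len_el h.symm (by omega), el_zero, len_one]; omega),
            el_zero, cnt_one]
          simp [Gon.wt]
        | k + 2 =>
          rw [el_succ, cnt_g_mul P b (by rw [← el_succ, len_el h.symm (by omega), len_el h (by omega)]; omega),
            el_succ, cnt_g_mul P a (by rw [← el_succ, len_el h (by omega), len_el h.symm (by omega)]; omega),
            ih k (by omega) (by omega), Gon.wt, Gon.wt, show (k + 2) / 2 = k / 2 + 1 by omega,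
            show (k + 2) % 2 = k % 2 by omega, pow_succ]
          ring
    have ea : ∀ k : Fin (mm P a b), cnt P (el P a b (k + 1)) * u (cls h (el P a b (k + 1))) ^ 2 =
        q P a * (cnt P (el P b a k) * u (cls h (el P b a k)) ^ 2) := fun k => by
      rw [el_succ, cnt_g_mul P a (by rw [← el_succ, len_el h (by omega), len_el h.symm (by omega)]; omega),
        cls_left, mul_assoc]
    simp only [ea, ← Finset.mul_sum]
    rw [← Fin.sum_univ_eq_sum_range (fun k => Gon.wt (q P b) (q P a) k * u ((k + 1) / 2) ^ 2),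
      Finset.sum_congr rfl fun (k : Fin (mm P a b)) _ => by
        rw [hcnt k k.2, cls_b h k.2.le, Nat.min_eq_left (by omega)]]
    ring
  have hS0 : 0 < S := by
    rw [hS1, cv]
    refine Finset.sum_pos' (fun y _ => by rw [mul_one, hFinv]; exact mul_self_nonneg _)
      ⟨((1 : G) : G ⧸ P.B), Finset.mem_univ _, ?_⟩
    rw [mul_one, hFinv]
    show 0 < lift P _ ((1 : G) : G ⧸ P.B).out * lift P _ ((1 : G) : G ⧸ P.B).out
    rw [lift_out]
    show (0 : ℝ) < F 1 * F 1
    rw [hF1]; norm_num
  obtain ⟨n, hn⟩ := exists_card_eq P hF hS0 hF1 hcv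
  have hN : (0 : ℝ) < Nat.card (G ⧸ P.B) := Nat.cast_pos.mpr Nat.card_pos
  have hn0 : (n : ℝ) ≠ 0 := fun e => by rw [e, zero_mul] at hn; exact hN.ne' hn
  have hqa' : (1 : ℝ) + q P a ≠ 0 := (add_pos one_pos hqa).ne'
  have he : ∑ k ∈ range (mm P a b), Gon.wt (q P b) (q P a) k * u ((k + 1) / 2) ^ 2 =
      (Nat.card (G ⧸ P.B) : ℝ) / ((n : ℝ) * (1 + q P a)) := by
    rw [eq_div_iff (mul_ne_zero hn0 hqa')]
    linear_combination (-1 : ℝ) * hn - (n : ℝ) * hsum
  rw [he]
  exact div_mem (natCast_mem _ _) (mul_mem (natCast_mem _ _) (add_mem (one_mem _) (natCast_mem _ _)))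

include h in
theorem q_eq_of_odd (hodd : Odd (mm P a b)) : q P b = q P a := by
  obtain ⟨d, hd⟩ := hodd
  have hmc := mm_comm P a b
  have key : ∀ (x y : P.S), Pair P x y → mm P x y = 2 * d + 1 → ∀ i ≤ d,
      cnt P (el P x y (2 * i)) = (q P x * q P y) ^ i ∧ cnt P (el P x y (2 * i + 1)) = (q P x * q P y) ^ i * q P x := by
    intro x y hxy hm i
    have hyx : mm P y x = 2 * d + 1 := by rw [← mm_comm P x y]; exact hm
    have hfirst : ∀ i ≤ d, cnt P (el P x y (2 * i + 1)) = q P x * cnt P (el P y x (2 * i)) := fun i hi => by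
      rw [el_succ, cnt_g_mul P x (by rw [← el_succ, len_el hxy (by omega), len_el hxy.symm (by omega)]; omega)]
    induction i generalizing x y with
    | zero => intro _; simp [cnt_one, hfirst 0 (Nat.zero_le _)]
    | succ i ih =>
      intro hi
      have heven : ∀ x y : P.S, Pair P x y → mm P x y = 2 * d + 1 → mm P y x = 2 * d + 1 →
          cnt P (el P x y (2 * (i + 1))) = q P x * (cnt P (el P y x (2 * i + 1))) := by
        intro x y hxy hm hm'
        rw [show 2 * (i + 1) = 2 * i + 1 + 1 by ring, el_succ P x y (2 * i + 1),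
          cnt_g_mul P x (by rw [← el_succ, len_el hxy (by omega), len_el hxy.symm (by omega)]; omega)]
      have hfirst' : ∀ i ≤ d, cnt P (el P y x (2 * i + 1)) = q P y * cnt P (el P x y (2 * i)) := fun i hi => by
        rw [el_succ, cnt_g_mul P y (by rw [← el_succ, len_el hxy.symm (by omega), len_el hxy (by omega)]; omega)]
      obtain ⟨h1, -⟩ := ih x y hxy hm hyx hfirst (by omega)
      obtain ⟨h2, -⟩ := ih y x hxy.symm hyx hm hfirst' (by omega)
      refine ⟨?_, ?_⟩
      · rw [heven x y hxy hm hyx, hfirst' i (by omega), h1, pow_succ]; ring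
      · rw [hfirst (i + 1) hi, heven y x hxy.symm hyx hm, hfirst i (by omega), h2, pow_succ]; ring
  have h1 := (key a b h hd d le_rfl).2
  have h2 := (key b a h.symm (by omega) d le_rfl).2
  rw [← hd, el_top, hd, h2, mul_comm (q P b) (q P a)] at h1
  have hpos : (0 : ℝ) < (q P a * q P b) ^ d := pow_pos (mul_pos (lt_of_lt_of_le two_pos (two_le_q P a))
    (lt_of_lt_of_le two_pos (two_le_q P b))) _
  exact mul_left_cancel₀ hpos.ne' h1

omit [Fintype (G ⧸ P.B)] in
include h in
theorem mm_mem : mm P a b = 2 ∨ mm P a b = 3 ∨ mm P a b = 4 ∨ mm P a b = 6 ∨ mm P a b = 8 := by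
  haveI := Fintype.ofFinite (G ⧸ P.B)
  have hm2 := two_le_mm h
  have hs : 2 ≤ (cosets P (g P b)).card := by
    have := two_le_q P b; rw [q] at this; exact_mod_cast this
  have ht : 2 ≤ (cosets P (g P a)).card := by
    have := two_le_q P a; rw [q] at this; exact_mod_cast this
  rcases Nat.even_or_odd' (mm P a b) with ⟨d, hd | hd⟩
  · have hk := key h
    simp only [q, hd] at hk
    rcases Gon.even_bound hs ht (by omega) hk with rfl | rfl | rfl | rfl <;> omega
  · have hk := key h
    have hq := q_eq_of_odd h ⟨d, hd⟩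
    simp only [q, Nat.cast_inj] at hq
    simp only [q, hd, ← hq] at hk
    have := Gon.odd_bound hs (by omega) hk
    omega

omit [Fintype (G ⧸ P.B)] in
include h in
theorem card_W : Nat.card (W P) = 2 * mm P a b := by
  rw [← Nat.card_congr (Equiv.ofBijective _ (surj_bij h)), Nat.card_sum, Nat.card_fin, two_mul]

end Cfsg.Agent.BN.Rank2
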