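import Cfsg.Agent.Lib.BN.HeckeOps
import Cfsg.Agent.Lib.BN.Hecke
import Cfsg.Agent.Lib.CT.Induced
import Cfsg.Prelude.Def_ParabolicCharacters

/-!
The constituents of the permutation character on the cosets of `B` are as many as the classes of `W`, when all
parameters of the (B,N)-pair are equal.
-/

set_option autoImplicit false

namespace Cfsg.Agent.BN.HeckeC

open scoped ComplexConjugate

universe u

variable {G : Type u} [Group G]

/-- Convolution of irreducible characters. -/
theorem irr_conv [Fintype G] (χ ψ : IrrCharacter G) (y : G) [Decidable (χ = ψ)] :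
    ∑ x : G, χ.1 x * ψ.1 (x⁻¹ * y) = if χ = ψ then (Nat.card G : ℂ) * χ.1 y / χ.1 1 else 0 := by
  classical
  obtain ⟨n, ρ, hρ, he⟩ := ψ.2
  haveI := hρ
  have hcf := CT.isClassFunction_of_isIrr χ.2
  have hs := CT.eq_scalar_of_commute ρ (∑ x : G, χ.1 x • ρ x⁻¹)
    (fun h => (CT.weighted_sum_commute ρ hcf h).symm)
  have htr : LinearMap.trace ℂ (Fin n → ℂ) (∑ x : G, χ.1 x • ρ x⁻¹) =
      if χ = ψ then (Nat.card G : ℂ) else 0 := by
    have h1 := CT.irr_inner_subtype χ ψ
    rw [classInner, inv_mul_eq_iff_eq_mul₀ (Nat.cast_ne_zero.mpr Nat.card_pos.ne'), mul_ite, mul_one,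
      mul_zero] at h1
    rw [map_sum]
    convert h1 using 1
    · refine Finset.sum_congr rfl fun x _ => ?_
      rw [map_smul, smul_eq_mul, ← he, ← CT.char_inv ρ x]
      rfl
    · split_ifs <;> rfl
  have h2 := congrArg (fun T => LinearMap.trace ℂ (Fin n → ℂ) (T * ρ y)) hs
  simp only [Finset.sum_mul, smul_mul_assoc, ← map_mul, map_sum, map_smul, smul_eq_mul, htr] at h2
  rw [show (LinearMap.id : Module.End ℂ (Fin n → ℂ)) = 1 from rfl, one_mul] at h2
  have hl : ∑ x : G, χ.1 x * ψ.1 (x⁻¹ * y) = ∑ x : G, χ.1 x * LinearMap.trace ℂ _ (ρ (x⁻¹ * y)) :=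
    Finset.sum_congr rfl fun x _ => by rw [← he]; rfl
  rw [hl, h2]
  split_ifs with h
  · subst h
    rw [← he, Representation.char_one]
    rw [div_mul_eq_mul_div]
    rfl
  · simp

variable (P : Cfsg.BNPair G)

/-- Pullback to the group. -/
noncomputable def up' (φ : W P → ℂ) : G → ℂ := fun x => φ (Hecke.cell P x)

theorem up'_bi (φ : W P → ℂ) {b b' : G} (hb : b ∈ P.B) (hb' : b' ∈ P.B) (x : G) :
    up' P φ (b * x * b') = up' P φ x := by
  show φ _ = φ _
  rw [Hecke.cell_right P hb', Hecke.cell_left P hb]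

theorem cell_smul_out {b : G} (hb : b ∈ P.B) (y : G ⧸ P.B) :
    Hecke.cell P (b • y).out = Hecke.cell P y.out := by
  obtain ⟨c, hc, e⟩ := Hecke.out_smul P b y
  rw [e, Hecke.cell_right P hc, Hecke.cell_left P hb]

theorem exists_smul_eq_of_cell {y y' : G ⧸ P.B} (h : Hecke.cell P y.out = Hecke.cell P y'.out) :
    ∃ b : P.B, b.1 • y = y' := by
  obtain ⟨n, hn⟩ := QuotientGroup.mk_surjective (Hecke.cell P y.out)
  have h1 := Hecke.mem_cell P y.out
  have h2 := Hecke.mem_cell P y'.out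
  rw [← h] at h2
  rw [← hn, C_eq_doubleCoset, DoubleCoset.mem_doubleCoset] at h1 h2
  obtain ⟨b, hb, c, hc, e⟩ := h1
  obtain ⟨b', hb', c', hc', e'⟩ := h2
  refine ⟨⟨b' * b⁻¹, P.B.mul_mem hb' (P.B.inv_mem hb)⟩, ?_⟩
  rw [← y.out_eq', ← y'.out_eq']
  show (QuotientGroup.mk (b' * b⁻¹ * y.out) : G ⧸ P.B) = _
  rw [QuotientGroup.eq, e, e']
  have : (b' * b⁻¹ * (b * (n : G) * c))⁻¹ * (b' * n * c') = c⁻¹ * c' := by group
  rw [this]
  exact P.B.mul_mem (P.B.inv_mem hc) hc'

section
variable [Fintype (G ⧸ P.B)] (q : ℕ) (hq : ∀ s : P.S, (Hecke.cosets P (g P s)).card = q)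
include hq

theorem T_eq_L (s : P.S) (φ : W P → ℂ) (x : G) :
    ∑ y ∈ Hecke.cosets P (g P s), φ (Hecke.cell P (y.out⁻¹ * x)) = L P q s φ (Hecke.cell P x) := by
  classical
  have hqs : Hecke.q P s = q := by rw [Hecke.q, hq]
  have hre := fun ψ : W P → ℝ => congrFun (Hecke.T_lift P s ψ) x
  simp only [Hecke.T, Hecke.lift, Hecke.Tw, hqs] at hre
  apply Complex.ext
  · rw [Complex.re_sum, hre fun w => (φ w).re]
    by_cases h : Up P s (Hecke.cell P x)
    · rw [L_apply_up P _ h, if_pos (show len P _ < len P _ from h)]; simp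
    · rw [L_apply_down P _ h, if_neg (show ¬ len P _ < len P _ from h)]; simp
  · rw [Complex.im_sum, hre fun w => (φ w).im]
    by_cases h : Up P s (Hecke.cell P x)
    · rw [L_apply_up P _ h, if_pos (show len P _ < len P _ from h)]; simp
    · rw [L_apply_down P _ h, if_neg (show ¬ len P _ < len P _ from h)]; simp

theorem E_eq_sum [Fintype (W P)] : ∀ (k : ℕ) (w : W P), len P w = k → ∀ (φ : W P → ℂ) (x : G),
    E P q w φ (Hecke.cell P x) = ∑ y ∈ Hecke.cosets P w, φ (Hecke.cell P (y.out⁻¹ * x)) := by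
  classical
  intro k
  induction k with
  | zero =>
    intro w hw φ x
    obtain rfl := eq_one_of_len_eq_zero P hw
    have h1 : ∀ y ∈ Hecke.cosets P (1 : W P), φ (Hecke.cell P (y.out⁻¹ * x)) = φ (Hecke.cell P x) :=
      fun y hy => by
        have hb := Hecke.mem_cell P y.out
        rw [(Hecke.mem_cosets P).1 hy, mem_C_one_iff] at hb
        rw [Hecke.cell_left P (P.B.inv_mem hb)]
    have hc := Hecke.cnt_one P
    rw [Hecke.cnt, Nat.cast_eq_one] at hc
    rw [Finset.sum_congr rfl h1, Finset.sum_const, hc, one_smul, E_one]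
    rfl
  | succ k ih =>
    intro w hw φ x
    obtain ⟨l, hl, hlen⟩ := exists_reduced P w
    rcases l with _ | ⟨s, l⟩
    · simp at hlen; omega
    have hred : Reduced P (s :: l) := by rw [Reduced, hl]; exact hlen.symm
    have hl' := reduced_tail P hred
    rw [wp_cons] at hl
    simp only [List.length_cons] at hlen
    unfold Reduced at hl'
    have hlw : len P (wp P l) = k := by omega
    have hup : Up P s (wp P l) := by unfold Up; rw [hl]; omega
    have hstep : ∀ z : G, ∑ h ∈ Hecke.cosets P (g P s), δ P (wp P l) (Hecke.cell P (h.out⁻¹ * z)) =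
        δ P w (Hecke.cell P z) := fun z => by
      rw [T_eq_L P q hq, L_δ_up P _ hup, hl]
    have hsum : ∀ (v : W P) (F : G ⧸ P.B → ℂ), ∑ y ∈ Hecke.cosets P v, F y =
        ∑ y, δ P v (Hecke.cell P y.out) * F y := fun v F => by
      simp only [δ_apply, ite_mul, one_mul, zero_mul]
      rw [← Finset.sum_filter]
      exact Finset.sum_congr (Finset.ext fun y => by simp [Hecke.mem_cosets]) fun _ _ => rfl
    rw [← hl, ← L_E_up P _ hup, ← T_eq_L P q hq, hl]
    rw [Finset.sum_congr rfl fun h _ => ih _ hlw φ (h.out⁻¹ * x)]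
    rw [Finset.sum_congr rfl fun h _ => hsum (wp P l) _, hsum w]
    have hre : ∀ h : G ⧸ P.B,
        ∑ y : G ⧸ P.B, δ P (wp P l) (Hecke.cell P y.out) * φ (Hecke.cell P (y.out⁻¹ * (h.out⁻¹ * x))) =
          ∑ z : G ⧸ P.B, δ P (wp P l) (Hecke.cell P (h.out⁻¹ * z.out)) * φ (Hecke.cell P (z.out⁻¹ * x)) := by
      intro h
      refine Fintype.sum_equiv (MulAction.toPerm h.out : Equiv.Perm (G ⧸ P.B)) _ _ fun y => ?_
      obtain ⟨b, hb, e⟩ := Hecke.out_smul P h.out y
      rw [MulAction.toPerm_apply, e, show h.out⁻¹ * (h.out * y.out * b) = y.out * b by group,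
        Hecke.cell_right P hb,
        show (h.out * y.out * b)⁻¹ * x = b⁻¹ * (y.out⁻¹ * (h.out⁻¹ * x)) by group,
        Hecke.cell_left P (P.B.inv_mem hb)]
    rw [Finset.sum_congr rfl fun h _ => hre h, Finset.sum_comm]
    exact Finset.sum_congr rfl fun z _ => by rw [← Finset.sum_mul, hstep]

theorem card_cosets [Fintype (W P)] (w : W P) : (Hecke.cosets P w).card = q ^ len P w := by
  classical
  have h := E_eq_sum P q hq _ w rfl (fun _ => (1 : ℂ)) 1
  have hLop : ∀ l : List P.S, Lop P (q : ℝ) l (fun _ => (1 : ℂ)) = fun _ => (q : ℂ) ^ l.length := by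
    intro l
    induction l with
    | nil => simp [Lop]
    | cons s l ih =>
      show L P (q : ℝ) s (Lop P (q : ℝ) l _) = _
      rw [ih]
      funext v
      by_cases hu : Up P s v
      · rw [L_apply_up P _ hu, List.length_cons, pow_succ]; push_cast; ring
      · rw [L_apply_down P _ hu, List.length_cons, pow_succ]; push_cast; ring
  obtain ⟨h1, h2⟩ := rw'_spec P w
  unfold Reduced at h2
  rw [h1] at h2
  rw [E, hLop, ← h2] at h
  simp only [Finset.sum_const, nsmul_eq_mul, mul_one] at h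
  exact_mod_cast h.symm

end

section
variable [Fintype G]

/-- Averages over `B` on both sides. -/
noncomputable def biSum (f : G → ℂ) (x : G) : ℂ :=
  open Classical in ∑ b : P.B, ∑ b' : P.B, f (b * x * b')

/-- Sum over a conjugacy orbit. -/
noncomputable def clSum (f : G → ℂ) (x : G) : ℂ := ∑ a : G, f (a⁻¹ * x * a)

/-- The bi-invariant part of a function, read on `W`. -/
noncomputable def pr : (G → ℂ) →ₗ[ℂ] (W P → ℂ) where
  toFun f w := biSum P f ((Quotient.out w : P.N) : G)
  map_add' f f' := by funext w; simp [biSum, Finset.sum_add_distrib]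
  map_smul' c f := by funext w; simp [biSum, Finset.mul_sum]

theorem biSum_bi (f : G → ℂ) {c c' : G} (hc : c ∈ P.B) (hc' : c' ∈ P.B) (x : G) :
    biSum P f (c * x * c') = biSum P f x := by
  classical
  unfold biSum
  refine Fintype.sum_equiv (Equiv.mulRight ⟨c, hc⟩) _ _ fun b => ?_
  refine Fintype.sum_equiv (Equiv.mulLeft ⟨c', hc'⟩) _ _ fun b' => ?_
  simp [mul_assoc]

theorem biSum_eq_pr (f : G → ℂ) (x : G) : biSum P f x = pr P f (Hecke.cell P x) := by
  have hx := Hecke.mem_cell P x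
  have hn : QuotientGroup.mk (Quotient.out (Hecke.cell P x)) = Hecke.cell P x := QuotientGroup.out_eq' _
  rw [← hn, C_eq_doubleCoset, DoubleCoset.mem_doubleCoset] at hx
  obtain ⟨b, hb, b', hb', e⟩ := hx
  show _ = biSum P f ((Quotient.out (Hecke.cell P x) : P.N) : G)
  conv_lhs => rw [e]
  exact biSum_bi P f hb hb' _

variable (q : ℕ) (hq : ∀ [Fintype (G ⧸ P.B)] (s : P.S), (Hecke.cosets P (g P s)).card = q) (hq0 : 0 < q)
include hq hq0

/-- The Casimir operator is averaging over conjugates and over `B`. -/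
theorem biSum_clSum [Fintype (W P)] (φ : W P → ℂ) (x : G) :
    biSum P (clSum (up' P φ)) x = (Nat.card P.B : ℂ) ^ 3 * Cas P q φ (Hecke.cell P x) := by
  classical
  haveI : Fintype (G ⧸ P.B) := Fintype.ofFinite _
  have hGop : ∀ (w : W P) (z : G), Gop P (q : ℝ) w φ (Hecke.cell P z) =
      ∑ y ∈ Hecke.cosets P w, φ (Hecke.cell P (z * y.out)) := fun w z => by
    show E P (q : ℝ) w (iota P φ) (Hecke.cell P z)⁻¹ = _
    rw [← Hecke.cell_inv, E_eq_sum P q hq _ w rfl]
    refine Finset.sum_congr rfl fun y _ => ?_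
    rw [iota_apply, ← Hecke.cell_inv]
    congr 2
    group
  have hCas : Cas P (q : ℝ) φ (Hecke.cell P x) = ∑ w, ((q : ℂ) ^ len P w)⁻¹ *
      ∑ y ∈ Hecke.cosets P w, ∑ y' ∈ Hecke.cosets P w, φ (Hecke.cell P (y.out⁻¹ * x * y'.out)) := by
    rw [Cas_apply, Finset.sum_apply]
    refine Finset.sum_congr rfl fun w _ => ?_
    rw [Pi.smul_apply, smul_eq_mul, E_eq_sum P q hq _ w rfl, wt, Complex.ofReal_natCast]
    exact congrArg _ (Finset.sum_congr rfl fun y _ => hGop w _)
  let K : G ⧸ P.B → G ⧸ P.B → ℂ := fun y y' => φ (Hecke.cell P (y.out⁻¹ * x * y'.out))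
  have hK : ∀ a a' : G, K (QuotientGroup.mk a) (QuotientGroup.mk a') = φ (Hecke.cell P (a⁻¹ * x * a')) := by
    intro a a'
    obtain ⟨b, hb, e⟩ := Hecke.out_mul P a
    obtain ⟨b', hb', e'⟩ := Hecke.out_mul P a'
    simp only [K, e, e']
    rw [show (a * b)⁻¹ * x * (a' * b') = b⁻¹ * (a⁻¹ * x * a') * b' by group, Hecke.cell_right P hb',
      Hecke.cell_left P (P.B.inv_mem hb)]
  have hlhs : biSum P (clSum (up' P φ)) x =
      ∑ a : G, ∑ b : P.B, ∑ b' : P.B, K (b.1 • QuotientGroup.mk a) (b'.1 • QuotientGroup.mk a) := by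
    unfold biSum clSum
    rw [Finset.sum_congr rfl fun b _ => Finset.sum_comm, Finset.sum_comm]
    refine Finset.sum_congr rfl fun a _ => ?_
    refine Fintype.sum_equiv (Equiv.inv P.B) _ _ fun b => Finset.sum_congr rfl fun b' _ => ?_
    show up' P φ _ = K (QuotientGroup.mk ((b⁻¹ : P.B).1 * a)) (QuotientGroup.mk (b'.1 * a))
    rw [hK]
    show φ _ = φ _
    congr 2
    simp [mul_assoc]
  have hfib : ∀ h : G ⧸ P.B → ℂ, ∑ a : G, h (QuotientGroup.mk a) = (Nat.card P.B : ℂ) * ∑ y, h y := by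
    intro h
    rw [show ∑ a : G, h (QuotientGroup.mk a) = ∑ p : (G ⧸ P.B) × P.B, h p.1 from
      Fintype.sum_equiv (Subgroup.groupEquivQuotientProdSubgroup (s := P.B)) _ _ (fun a => rfl),
      Fintype.sum_prod_type, Finset.mul_sum]
    exact Finset.sum_congr rfl fun y _ => by
      simp [Nat.card_eq_fintype_card]
  have htrans : ∀ (w : W P) (y : G ⧸ P.B), y ∈ Hecke.cosets P w → ∀ h : G ⧸ P.B → ℂ,
      ∑ b : P.B, h (b.1 • y) = (Nat.card P.B : ℂ) * ((q : ℂ) ^ len P w)⁻¹ * ∑ y' ∈ Hecke.cosets P w, h y' := by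
    intro w y hy h
    have hconst : ∀ y' ∈ Hecke.cosets P w, ∑ b : P.B, h (b.1 • y') = ∑ b : P.B, h (b.1 • y) := by
      intro y' hy'
      obtain ⟨c, hc⟩ := exists_smul_eq_of_cell P
        ((((Hecke.mem_cosets P).1 hy).trans ((Hecke.mem_cosets P).1 hy').symm))
      rw [← hc]
      exact Fintype.sum_equiv (Equiv.mulRight c) _ _ fun b => by simp [mul_smul]
    have h1 : ((Hecke.cosets P w).card : ℂ) * ∑ b : P.B, h (b.1 • y) =
        (Nat.card P.B : ℂ) * ∑ y' ∈ Hecke.cosets P w, h y' := by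
      rw [← nsmul_eq_mul, ← Finset.sum_const, ← Finset.sum_congr rfl hconst, Finset.sum_comm,
        Nat.card_eq_fintype_card, ← nsmul_eq_mul, ← Finset.card_univ, ← Finset.sum_const]
      refine Finset.sum_congr rfl fun b _ => ?_
      refine Finset.sum_bij' (fun y' _ => b.1 • y') (fun y' _ => b.1⁻¹ • y') ?_ ?_ ?_ ?_ ?_
      · intro y' hy'
        rw [Hecke.mem_cosets, cell_smul_out P b.2]
        exact (Hecke.mem_cosets P).1 hy'
      · intro y' hy'
        rw [Hecke.mem_cosets, cell_smul_out P (P.B.inv_mem b.2)]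
        exact (Hecke.mem_cosets P).1 hy'
      · intro y' _; exact inv_smul_smul b.1 y'
      · intro y' _; exact smul_inv_smul b.1 y'
      · intro y' _; rfl
    rw [card_cosets P q hq] at h1
    have hne : ((q : ℂ) ^ len P w) ≠ 0 := pow_ne_zero _ (Nat.cast_ne_zero.2 hq0.ne')
    push_cast at h1
    field_simp
    linear_combination h1
  rw [hlhs, hfib (fun y => ∑ b : P.B, ∑ b' : P.B, K (b.1 • y) (b'.1 • y))]
  rw [← Finset.sum_fiberwise_of_maps_to (g := fun y : G ⧸ P.B => Hecke.cell P y.out)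
    (t := Finset.univ) (fun _ _ => Finset.mem_univ _), hCas, Finset.mul_sum, Finset.mul_sum]
  refine Finset.sum_congr rfl fun w _ => ?_
  have hset : (Finset.univ.filter fun y : G ⧸ P.B => Hecke.cell P y.out = w) = Hecke.cosets P w :=
    Finset.ext fun y => by simp [Hecke.mem_cosets]
  rw [hset]
  have hinner : ∀ y ∈ Hecke.cosets P w, ∑ b : P.B, ∑ b' : P.B, K (b.1 • y) (b'.1 • y) =
      ((Nat.card P.B : ℂ) * ((q : ℂ) ^ len P w)⁻¹) ^ 2 *
        ∑ z ∈ Hecke.cosets P w, ∑ z' ∈ Hecke.cosets P w, K z z' := fun y hy => by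
    rw [Finset.sum_congr rfl fun b _ => htrans w y hy (fun z' => K (b.1 • y) z'), ← Finset.mul_sum,
      htrans w y hy (fun z => ∑ z' ∈ Hecke.cosets P w, K z z')]
    ring
  rw [Finset.sum_congr rfl hinner, Finset.sum_const, card_cosets P q hq, nsmul_eq_mul]
  have hne : ((q : ℂ) ^ len P w) ≠ 0 := pow_ne_zero _ (Nat.cast_ne_zero.2 hq0.ne')
  push_cast
  field_simp
  rfl

/-- The constituents of the permutation character on `G ⧸ B` are as many as the classes of `W`. -/
theorem card_constituents [Fintype (W P)] [Finite P.S] :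
    Nat.card {χ : IrrCharacter G // ∃ φ : G → ℂ, IsCharacter G φ ∧
      Cfsg.fixedPointCharacter P.B = (χ : G → ℂ) + φ} = Nat.card (ConjClasses (W P)) := by
  classical
  set π := Cfsg.fixedPointCharacter P.B with hπdef
  have hπ : IsCharacter G π := CT.isCharacter_perm _
  have hπind : π = indFun P.B (fun _ => 1) := by
    funext a
    rw [hπdef]
    unfold fixedPointCharacter
    rw [← CT.indFun_one_eq_fixedBy (G ⧸ P.B) ((1 : G) : G ⧸ P.B) a]
    have hs : MulAction.stabilizer G ((1 : G) : G ⧸ P.B) = P.B := MulAction.stabilizer_quotient P.B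
    rw [hs]
  let M : IrrCharacter G → ℂ := fun χ => ∑ b : P.B, χ.1 b
  have hinner : ∀ χ : IrrCharacter G, classInner π χ.1 = (Nat.card P.B : ℂ)⁻¹ * conj (M χ) := fun χ => by
    rw [hπind, CT.frobenius_reciprocity P.B _ (CT.isClassFunction_of_isIrr χ.2)]
    simp [classInner, M, map_sum]
  have hiff : ∀ χ : IrrCharacter G,
      (∃ φ : G → ℂ, IsCharacter G φ ∧ π = χ.1 + φ) ↔ M χ ≠ 0 := by
    intro χ
    have hB : (Nat.card P.B : ℂ)⁻¹ ≠ 0 := inv_ne_zero (Nat.cast_ne_zero.mpr Nat.card_pos.ne')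
    constructor
    · rintro ⟨φ, hφ, e⟩ hM
      obtain ⟨n, hn⟩ := CT.classInner_character_nat hφ (CT.isCharacter_of_isIrr χ.2)
      have h1 := hinner χ
      rw [e, CT.classInner_add_left, CT.irr_inner_self χ.2, hn, hM, map_zero, mul_zero] at h1
      have : (1 + n : ℕ) = 0 := by exact_mod_cast h1
      omega
    · intro hM
      obtain ⟨n, hn⟩ := CT.classInner_character_nat hπ (CT.isCharacter_of_isIrr χ.2)
      refine ⟨π - χ.1, ?_, by simp⟩
      refine CT.isCharacter_iff.mpr ⟨fun a b => ?_, fun ψ => ?_⟩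
      · simp only [Pi.sub_apply, CT.isClassFunction_of_isCharacter hπ a b,
          CT.isClassFunction_of_isIrr χ.2 a b]
      · rw [CT.classInner_sub_left, CT.irr_inner_subtype]
        obtain ⟨m, hm⟩ := CT.classInner_character_nat hπ (CT.isCharacter_of_isIrr ψ.2)
        rw [hm]
        by_cases hψ : χ = ψ
        · subst hψ
          have hm0 : m ≠ 0 := by
            rintro rfl
            rw [hinner, Nat.cast_zero, mul_eq_zero, map_eq_zero] at hm
            exact hM (hm.resolve_left hB)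
          exact ⟨m - 1, by rw [if_pos rfl, Nat.cast_sub (Nat.one_le_iff_ne_zero.2 hm0), Nat.cast_one]⟩
        · exact ⟨m, by rw [if_neg hψ, sub_zero]⟩
  have hbi : ∀ (χ : IrrCharacter G) (x : G), biSum P χ.1 x = (Nat.card P.B : ℂ) * ∑ b : P.B, χ.1 (b.1 * x) := by
    intro χ x
    unfold biSum
    rw [Finset.sum_comm, Nat.card_eq_fintype_card, ← nsmul_eq_mul, ← Finset.card_univ, ← Finset.sum_const]
    refine Finset.sum_congr rfl fun b' _ => ?_
    refine Fintype.sum_equiv (Equiv.mulLeft b') _ _ fun b => ?_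
    rw [CT.isClassFunction_mul_comm (CT.isClassFunction_of_isIrr χ.2) (b.1 * x) b'.1]
    simp [mul_assoc]
  have hBI : ∀ χ ψ : IrrCharacter G, classInner (biSum P χ.1) ψ.1 =
      if χ = ψ then (Nat.card P.B : ℂ) * M χ / χ.1 1 else 0 := by
    intro χ ψ
    have hb : ∀ b : P.B, ∑ x : G, χ.1 (b.1 * x) * conj (ψ.1 x) =
        if χ = ψ then (Nat.card G : ℂ) * χ.1 b.1 / χ.1 1 else 0 := fun b => by
      rw [← irr_conv χ ψ b.1]
      refine Fintype.sum_equiv (Equiv.mulLeft b.1) _ _ fun x => ?_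
      rw [← CT.char_inv_eq_conj (CT.isCharacter_of_isIrr ψ.2), Equiv.coe_mulLeft, mul_inv_rev,
        inv_mul_cancel_right]
    rw [classInner]
    simp only [hbi, mul_assoc, ← Finset.mul_sum, Finset.sum_mul]
    rw [Finset.sum_comm, Finset.sum_congr rfl fun b _ => hb b]
    split_ifs
    · have hG : (Nat.card G : ℂ) ≠ 0 := Nat.cast_ne_zero.mpr Nat.card_pos.ne'
      simp only [M, ← Finset.sum_div, ← Finset.mul_sum]
      field_simp
    · simp
  have hcl : ∀ f : G → ℂ, IsClassFunction G (clSum f) := fun f a b => by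
    unfold clSum
    refine Fintype.sum_equiv (Equiv.mulLeft b⁻¹) _ _ fun c => ?_
    simp [mul_assoc]
  have hclInner : ∀ (f : G → ℂ) (ψ : IrrCharacter G),
      classInner (clSum f) ψ.1 = (Nat.card G : ℂ) * classInner f ψ.1 := by
    intro f ψ
    simp only [classInner, clSum, Finset.sum_mul]
    rw [Finset.sum_comm, ← mul_assoc, mul_comm (Nat.card G : ℂ), mul_assoc]
    congr 1
    rw [Nat.card_eq_fintype_card, ← nsmul_eq_mul, ← Finset.card_univ, ← Finset.sum_const]
    refine Finset.sum_congr rfl fun a _ => ?_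
    refine Fintype.sum_equiv (MulAut.conj a⁻¹).toEquiv _ _ fun x => ?_
    have := CT.isClassFunction_of_isIrr ψ.2 x a⁻¹
    rw [inv_inv] at this
    simp [this]
  have hpr : ∀ f : G → ℂ, up' P (pr P f) = biSum P f := fun f => funext fun x => (biSum_eq_pr P f x).symm
  have hcas : ∀ φ : W P → ℂ, pr P (clSum (up' P φ)) = ((Nat.card P.B : ℂ) ^ 3) • Cas P q φ := fun φ => by
    funext w
    obtain ⟨n, rfl⟩ := QuotientGroup.mk_surjective w
    have e := Hecke.cell_eq P (mem_C_coe P n)
    rw [show (QuotientGroup.mk n : W P) = Hecke.cell P n from e.symm, ← biSum_eq_pr,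
      biSum_clSum P q hq hq0, Pi.smul_apply, smul_eq_mul]
  have hzero : ∀ χ : IrrCharacter G, M χ = 0 → pr P χ.1 = 0 := by
    intro χ hM
    funext w
    obtain ⟨n, rfl⟩ := QuotientGroup.mk_surjective w
    rw [show (QuotientGroup.mk n : W P) = Hecke.cell P n from (Hecke.cell_eq P (mem_C_coe P n)).symm,
      ← biSum_eq_pr]
    have h0 : biSum P χ.1 = 0 := by
      have hcf : classInner (clSum (biSum P χ.1)) (clSum (biSum P χ.1)) = 0 := by
        have hz : clSum (biSum P χ.1) = 0 := by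
          rw [CT.classFunction_eq_sum (hcl (biSum P χ.1))]
          refine Finset.sum_eq_zero fun ψ _ => ?_
          rw [hclInner, hBI, hM]
          simp
        rw [hz, CT.classInner_zero_left]
      apply CT.classInner_self_eq_zero
      have h1 : classInner (biSum P χ.1) (biSum P χ.1) =
          (Nat.card P.B : ℂ) ^ 2 * classInner (biSum P χ.1) χ.1 := by
        have hb1 : ∀ x, biSum P (biSum P χ.1) x = (Nat.card P.B : ℂ) ^ 2 * biSum P χ.1 x := fun x => by
          show ∑ b : P.B, ∑ b' : P.B, biSum P χ.1 (b * x * b') = _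
          simp only [fun b b' : P.B => biSum_bi P χ.1 b.2 b'.2 x, Finset.sum_const, Finset.card_univ,
            nsmul_eq_mul, Nat.card_eq_fintype_card]
          ring
        have hadj : ∀ f f' : G → ℂ, classInner (biSum P f) f' = classInner f (biSum P f') := by
          intro f f'
          simp only [classInner, biSum, map_sum, Finset.sum_mul, Finset.mul_sum]
          rw [Finset.sum_comm, Finset.sum_congr rfl fun b _ => Finset.sum_comm]
          conv_rhs => rw [Finset.sum_comm, Finset.sum_congr rfl fun b _ => Finset.sum_comm]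
          refine Fintype.sum_equiv (Equiv.inv P.B) _ _ fun b => Fintype.sum_equiv (Equiv.inv P.B) _ _ fun b' => ?_
          refine Fintype.sum_equiv ((Equiv.mulLeft b.1).trans (Equiv.mulRight b'.1)) _ _ fun x => ?_
          simp [mul_assoc]
        rw [← hadj (biSum P χ.1) χ.1, show biSum P (biSum P χ.1) = ((Nat.card P.B : ℂ) ^ 2) • biSum P χ.1 from
          funext fun x => hb1 x, CT.classInner_smul_left]
      rw [h1, hBI, if_pos rfl, hM]
      simp
    rw [h0]; rfl
  let ι := {χ : IrrCharacter G // M χ ≠ 0}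
  have hli : LinearIndependent ℂ fun χ : ι => pr P χ.1.1 := by
    rw [Fintype.linearIndependent_iff]
    intro c hc χ
    have h1 : biSum P (∑ ψ : ι, c ψ • ψ.1.1) = 0 := by
      rw [← hpr, map_sum]
      simp only [map_smul, hc]
      rfl
    have h2 := congrArg (fun f => classInner f χ.1.1) h1
    have h3 : biSum P (∑ ψ : ι, c ψ • ψ.1.1) = ∑ ψ : ι, c ψ • biSum P ψ.1.1 := by
      rw [← hpr, map_sum]
      funext x
      simp [up', biSum_eq_pr, Finset.sum_apply]
    simp only [h3, CT.classInner_sum_left, CT.classInner_smul_left, hBI, CT.classInner_zero_left] at h2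
    rw [Finset.sum_eq_single χ, if_pos rfl] at h2
    · have hne : (Nat.card P.B : ℂ) * M χ.1 / χ.1.1 1 ≠ 0 := div_ne_zero
        (mul_ne_zero (Nat.cast_ne_zero.mpr Nat.card_pos.ne') χ.2) (CT.irr_one_ne_zero χ.1.2)
      exact (mul_eq_zero.1 h2).resolve_right hne
    · intro ψ _ hne
      rw [if_neg (fun e => hne (Subtype.ext e)), mul_zero]
    · simp
  have hspan : Submodule.span ℂ (Set.range fun χ : ι => pr P χ.1.1) = Zc P (q : ℝ) := by
    have hq' : (0 : ℝ) < q := Nat.cast_pos.2 hq0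
    have hB3 : (Nat.card P.B : ℂ) ^ 3 ≠ 0 := pow_ne_zero _ (Nat.cast_ne_zero.mpr Nat.card_pos.ne')
    rw [← range_Cas P hq']
    refine le_antisymm (Submodule.span_le.2 ?_) ?_
    · rintro _ ⟨χ, rfl⟩
      have h1 := hcas (pr P χ.1.1)
      rw [hpr] at h1
      have h2 : clSum (biSum P χ.1.1) = ((Nat.card G : ℂ) * ((Nat.card P.B : ℂ) * M χ.1 / χ.1.1 1)) • χ.1.1 := by
        rw [CT.classFunction_eq_sum (hcl (biSum P χ.1.1)), Finset.sum_eq_single χ.1]
        · rw [hclInner, hBI, if_pos rfl]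
        · intro ψ _ hne
          rw [hclInner, hBI, if_neg (Ne.symm hne), mul_zero, zero_smul]
        · simp
      rw [h2, map_smul] at h1
      set c := (Nat.card G : ℂ) * ((Nat.card P.B : ℂ) * M χ.1 / χ.1.1 1) with hcdef
      have hc : c ≠ 0 := mul_ne_zero (Nat.cast_ne_zero.mpr Nat.card_pos.ne') (div_ne_zero
        (mul_ne_zero (Nat.cast_ne_zero.mpr Nat.card_pos.ne') χ.2) (CT.irr_one_ne_zero χ.1.2))
      refine ⟨(c⁻¹ * (Nat.card P.B : ℂ) ^ 3) • pr P χ.1.1, ?_⟩
      rw [map_smul, ← smul_smul, ← h1, smul_smul, inv_mul_cancel₀ hc, one_smul]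
    · rintro _ ⟨φ, rfl⟩
      have h1 := hcas φ
      rw [CT.classFunction_eq_sum (hcl (up' P φ)), map_sum] at h1
      have h2 : Cas P (q : ℝ) φ = ((Nat.card P.B : ℂ) ^ 3)⁻¹ • ∑ χ : IrrCharacter G,
          classInner (clSum (up' P φ)) χ.1 • pr P χ.1 := by
        rw [← (inv_smul_smul₀ hB3 (Cas P (q : ℝ) φ)), ← h1]
        simp only [map_smul]
      rw [h2]
      refine Submodule.smul_mem _ _ (Submodule.sum_mem _ fun χ _ => ?_)
      by_cases hM : M χ = 0
      · rw [hzero χ hM, smul_zero]; exact Submodule.zero_mem _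
      · exact Submodule.smul_mem _ _ (Submodule.subset_span ⟨⟨χ, hM⟩, rfl⟩)
  have hdim := finrank_span_eq_card hli
  rw [hspan, finrank_Zc_eq P (Nat.cast_pos.2 hq0), finrank_Zc_one] at hdim
  rw [hdim, Nat.card_congr (Equiv.subtypeEquivRight hiff), Nat.card_eq_fintype_card]

end

end Cfsg.Agent.BN.HeckeC
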