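import Cfsg.Agent.Lib.BN.Basic
import Mathlib.LinearAlgebra.Dimension.Finrank
import Mathlib.Analysis.Normed.Module.FiniteDimension
import Mathlib.Analysis.Complex.Basic
import Mathlib.GroupTheory.GroupAction.ConjAct
import Mathlib.Algebra.Group.Conj
import Mathlib.Analysis.Convex.PathConnected

/-!
The Hecke algebra of the Weyl group of a (B,N)-pair with parameter `t`, acting on functions on `W` from both
sides, and the dimension of its centre, which does not depend on `t > 0`.
-/

set_option autoImplicit false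

namespace Cfsg.Agent.BN.HeckeC

open scoped ComplexConjugate

variable {G : Type*} [Group G] (P : Cfsg.BNPair G)

theorem len_inv (w : W P) : len P w⁻¹ = len P w := by
  have key : ∀ v : W P, len P v⁻¹ ≤ len P v := fun v => by
    obtain ⟨l, rfl, hl⟩ := exists_reduced P v
    rw [← wp_reverse, ← hl, ← List.length_reverse (as := l)]
    exact len_le P _
  refine le_antisymm (key w) ?_
  have := key w⁻¹
  rwa [inv_inv] at this

/-- Going up on the left by a generator. -/
def Up (s : P.S) (w : W P) : Prop := len P w < len P (g P s * w)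

theorem up_g_mul (s : P.S) (w : W P) : Up P s (g P s * w) ↔ ¬ Up P s w := by
  have := len_g_mul_ne P s w
  unfold Up
  rw [g_mul_cancel]
  omega

theorem len_up {s : P.S} {w : W P} (h : Up P s w) : len P (g P s * w) = len P w + 1 := by
  have := len_mul_le P (g P s) w
  rw [len_g] at this
  unfold Up at h
  omega

theorem up_one (s : P.S) : Up P s (1 : W P) := by
  unfold Up
  rw [mul_one, len_one, len_g]
  omega

theorem diamond_aux {s u : P.S} {w : W P} (h1 : Up P s w) (h2 : ¬ Up P s (w * g P u)) :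
    g P s * w = w * g P u := by
  have hne := len_g_mul_ne P s (w * g P u)
  unfold Up at h1 h2
  have hlt : len P (g P s * (w * g P u)) < len P (w * g P u) := by omega
  have hle : len P (w * g P u) ≤ len P w + 1 := by
    have := len_mul_le P w (g P u)
    rwa [len_g] at this
  have hle2 : len P (g P s * w) ≤ len P (g P s * (w * g P u)) + 1 := by
    have := len_mul_le P (g P s * (w * g P u)) (g P u)
    rwa [len_g, mul_assoc, mul_g_cancel] at this
  obtain ⟨l, hl, hlen⟩ := exists_reduced P w
  have hwu : wp P (l ++ [u]) = w * g P u := by simp [hl]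
  obtain ⟨i, hi, he⟩ := exchange P (s := s) (l := l ++ [u]) (by rw [hwu]; exact hlt)
  rw [hwu] at he
  by_cases hil : i < l.length
  · exfalso
    rw [List.eraseIdx_append_of_lt_length hil] at he
    simp only [wp_append, wp_cons, wp_nil, mul_one] at he
    rw [← mul_assoc] at he
    have he' := mul_right_cancel he
    have := len_le P (l.eraseIdx i)
    rw [← he', List.length_eraseIdx, if_pos hil] at this
    omega
  · have hi' : i = l.length := by simp at hi; omega
    rw [hi', List.eraseIdx_append_of_length_le le_rfl] at he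
    simp [hl] at he
    have h3 := congrArg (fun x => g P s * x) he
    simp only [g_mul_cancel] at h3
    exact h3.symm

/-- The two sided diamond property. -/
theorem up_iff_of_ne {s u : P.S} {w : W P} (h : g P s * w ≠ w * g P u) :
    Up P s (w * g P u) ↔ Up P s w := by
  refine ⟨fun h1 => ?_, fun h1 => ?_⟩
  · by_contra h2
    have h3 := diamond_aux P h1 (u := u) (by rwa [mul_g_cancel])
    rw [mul_g_cancel] at h3
    exact h (by rw [← mul_g_cancel P u (g P s * w), mul_assoc (g P s), h3])
  · by_contra h2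
    exact h (diamond_aux P h1 h2)

open Classical in
/-- The left operator of a generator. -/
noncomputable def L (t : ℝ) (s : P.S) : (W P → ℂ) →ₗ[ℂ] (W P → ℂ) where
  toFun φ w := if Up P s w then (t : ℂ) * φ (g P s * w) else φ (g P s * w) + ((t : ℂ) - 1) * φ w
  map_add' φ ψ := by
    funext w
    simp only [Pi.add_apply]
    split_ifs <;> ring
  map_smul' c φ := by
    funext w
    simp only [Pi.smul_apply, smul_eq_mul, RingHom.id_apply]
    split_ifs <;> ring

/-- Inversion on functions. -/
def iota : (W P → ℂ) →ₗ[ℂ] (W P → ℂ) where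
  toFun φ w := φ w⁻¹
  map_add' _ _ := rfl
  map_smul' _ _ := rfl

/-- The right operator of a generator. -/
noncomputable def R (t : ℝ) (s : P.S) : (W P → ℂ) →ₗ[ℂ] (W P → ℂ) := iota P ∘ₗ L P t s ∘ₗ iota P

theorem iota_apply (φ : W P → ℂ) (w : W P) : iota P φ w = φ w⁻¹ := rfl

theorem iota_iota (φ : W P → ℂ) : iota P (iota P φ) = φ := funext fun w => congrArg φ (inv_inv w)

theorem L_apply_up (t : ℝ) {s : P.S} {w : W P} (h : Up P s w) (φ : W P → ℂ) :
    L P t s φ w = (t : ℂ) * φ (g P s * w) := if_pos h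

theorem L_apply_down (t : ℝ) {s : P.S} {w : W P} (h : ¬ Up P s w) (φ : W P → ℂ) :
    L P t s φ w = φ (g P s * w) + ((t : ℂ) - 1) * φ w := if_neg h

theorem inv_g_mul (s : P.S) (w : W P) : (g P s * w⁻¹)⁻¹ = w * g P s := by simp

theorem R_apply_up (t : ℝ) {s : P.S} {w : W P} (h : Up P s w⁻¹) (φ : W P → ℂ) :
    R P t s φ w = (t : ℂ) * φ (w * g P s) := by
  show L P t s (iota P φ) w⁻¹ = _
  rw [L_apply_up P t h, iota_apply, inv_g_mul]

theorem R_apply_down (t : ℝ) {s : P.S} {w : W P} (h : ¬ Up P s w⁻¹) (φ : W P → ℂ) :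
    R P t s φ w = φ (w * g P s) + ((t : ℂ) - 1) * φ w := by
  show L P t s (iota P φ) w⁻¹ = _
  rw [L_apply_down P t h, iota_apply, iota_apply, inv_g_mul, inv_inv]

/-- Left and right operators commute. -/
theorem L_R_comm (t : ℝ) (s u : P.S) (φ : W P → ℂ) : L P t s (R P t u φ) = R P t u (L P t s φ) := by
  funext w
  have e1 : (w * g P u)⁻¹ = g P u * w⁻¹ := by simp
  have e2 : g P s * (w * g P u) = g P s * w * g P u := (mul_assoc _ _ _).symm
  by_cases hne : g P s * w = w * g P u
  · have e3 : g P s * w * g P u = w := by rw [hne, mul_g_cancel]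
    have hiff : Up P s w ↔ Up P u w⁻¹ := by
      unfold Up
      rw [len_inv P w, ← len_inv P (g P u * w⁻¹), inv_g_mul, hne]
    have hu' : Up P u (g P s * w)⁻¹ ↔ ¬ Up P u w⁻¹ := by rw [hne, e1, up_g_mul]
    have hs' : Up P s (w * g P u) ↔ ¬ Up P s w := by rw [← hne, up_g_mul]
    by_cases hs : Up P s w
    · rw [L_apply_up P t hs, R_apply_down P t (fun h => hu'.1 h (hiff.1 hs)), R_apply_up P t (hiff.1 hs),
        L_apply_down P t (fun h => hs'.1 h hs), e2, e3, hne]
    · have hu : ¬ Up P u w⁻¹ := fun h => hs (hiff.2 h)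
      rw [L_apply_down P t hs, R_apply_up P t (hu'.2 hu), R_apply_down P t hu, R_apply_down P t hu,
        L_apply_up P t (hs'.2 hs), L_apply_down P t hs, e2, e3, hne]
  · have h1 := up_iff_of_ne P hne
    have hne2 : g P u * w⁻¹ ≠ w⁻¹ * g P s := fun e => hne (by
      have := congrArg (·⁻¹) e
      simpa [mul_inv_rev] using this.symm)
    have h2 : Up P u (g P s * w)⁻¹ ↔ Up P u w⁻¹ := by
      rw [mul_inv_rev, g_inv]
      exact up_iff_of_ne P hne2
    by_cases hs : Up P s w <;> by_cases hu : Up P u w⁻¹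
    · rw [L_apply_up P t hs, R_apply_up P t (h2.2 hu), R_apply_up P t hu, L_apply_up P t (h1.2 hs), e2]
    · rw [L_apply_up P t hs, R_apply_down P t (mt h2.1 hu), R_apply_down P t hu, L_apply_up P t (h1.2 hs),
        L_apply_up P t hs, e2]
      ring
    · rw [L_apply_down P t hs, R_apply_up P t (h2.2 hu), R_apply_up P t hu, R_apply_up P t hu,
        L_apply_down P t (mt h1.1 hs), e2]
      ring
    · rw [L_apply_down P t hs, R_apply_down P t (mt h2.1 hu), R_apply_down P t hu, R_apply_down P t hu,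
        L_apply_down P t (mt h1.1 hs), L_apply_down P t hs, e2]
      ring

/-- The left operator of a word. -/
noncomputable def Lop (t : ℝ) : List P.S → (W P → ℂ) →ₗ[ℂ] (W P → ℂ)
  | [] => LinearMap.id
  | s :: l => L P t s ∘ₗ Lop t l

/-- The right operator of a word. -/
noncomputable def Rop (t : ℝ) (l : List P.S) : (W P → ℂ) →ₗ[ℂ] (W P → ℂ) := iota P ∘ₗ Lop P t l ∘ₗ iota P

theorem Lop_append (t : ℝ) : ∀ (a b : List P.S) (φ : W P → ℂ),
    Lop P t (a ++ b) φ = Lop P t a (Lop P t b φ)
  | [], _, _ => rfl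
  | s :: a, b, φ => congrArg (L P t s) (Lop_append t a b φ)

theorem Rop_cons (t : ℝ) (s : P.S) (l : List P.S) (φ : W P → ℂ) :
    Rop P t (s :: l) φ = R P t s (Rop P t l φ) := by
  show iota P (L P t s (Lop P t l (iota P φ))) = iota P (L P t s (iota P (iota P (Lop P t l (iota P φ)))))
  rw [iota_iota]

theorem Rop_nil (t : ℝ) (φ : W P → ℂ) : Rop P t [] φ = φ := iota_iota P φ

theorem Lop_R_comm (t : ℝ) (u : P.S) : ∀ (l : List P.S) (φ : W P → ℂ),
    Lop P t l (R P t u φ) = R P t u (Lop P t l φ)
  | [], _ => rfl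
  | s :: l, φ => by
    show L P t s (Lop P t l (R P t u φ)) = R P t u (L P t s (Lop P t l φ))
    rw [Lop_R_comm t u l φ, L_R_comm]

theorem Lop_Rop_comm (t : ℝ) (l : List P.S) : ∀ (m : List P.S) (φ : W P → ℂ),
    Lop P t l (Rop P t m φ) = Rop P t m (Lop P t l φ)
  | [], φ => by rw [Rop_nil, Rop_nil]
  | s :: m, φ => by rw [Rop_cons, Rop_cons, Lop_R_comm, Lop_Rop_comm t l m φ]

open Classical in
/-- The basis function of an element. -/
noncomputable def δ (w : W P) : W P → ℂ := fun v => if v = w then 1 else 0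

open Classical in
theorem δ_apply (w v : W P) : δ P w v = if v = w then 1 else 0 := rfl

theorem iota_δ (w : W P) : iota P (δ P w) = δ P w⁻¹ := by
  funext v
  rw [iota_apply, δ_apply, δ_apply]
  congr 1
  exact propext inv_eq_iff_eq_inv

theorem L_δ_up (t : ℝ) {s : P.S} {w : W P} (h : Up P s w) : L P t s (δ P w) = δ P (g P s * w) := by
  funext v
  have hne : g P s * w ≠ w := fun e => g_ne_one P s (mul_eq_right.1 e)
  by_cases hv : v = g P s * w
  · subst hv
    rw [L_apply_down P t (fun e => (up_g_mul P s w).1 e h), g_mul_cancel, δ_apply, δ_apply, δ_apply,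
      if_pos rfl, if_neg hne, if_pos rfl]
    ring
  · have hv' : g P s * v ≠ w := fun e => hv (by rw [← e, g_mul_cancel])
    by_cases hu : Up P s v
    · rw [L_apply_up P t hu, δ_apply, δ_apply, if_neg hv', if_neg hv, mul_zero]
    · have hvw : v ≠ w := fun e => hu (e ▸ h)
      rw [L_apply_down P t hu, δ_apply, δ_apply, δ_apply, if_neg hv', if_neg hvw, if_neg hv]
      ring

theorem L_δ_down (t : ℝ) {s : P.S} {w : W P} (h : ¬ Up P s w) :
    L P t s (δ P w) = (t : ℂ) • δ P (g P s * w) + ((t : ℂ) - 1) • δ P w := by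
  funext v
  simp only [Pi.add_apply, Pi.smul_apply, smul_eq_mul]
  have hne : g P s * w ≠ w := fun e => g_ne_one P s (mul_eq_right.1 e)
  by_cases hv : v = g P s * w
  · subst hv
    rw [L_apply_up P t ((up_g_mul P s w).2 h), g_mul_cancel, δ_apply, δ_apply, δ_apply, if_pos rfl,
      if_neg hne, if_pos rfl]
    ring
  · have hv' : g P s * v ≠ w := fun e => hv (by rw [← e, g_mul_cancel])
    by_cases hvw : v = w
    · subst hvw
      rw [L_apply_down P t h, δ_apply, δ_apply, δ_apply, if_neg hv', if_pos rfl, if_neg hv]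
      ring
    · by_cases hu : Up P s v
      · rw [L_apply_up P t hu, δ_apply, δ_apply, δ_apply, if_neg hv', if_neg hv, if_neg hvw]
        ring
      · rw [L_apply_down P t hu, δ_apply, δ_apply, δ_apply, if_neg hv', if_neg hvw, if_neg hv]
        ring

theorem Lop_δ_one (t : ℝ) : ∀ {l : List P.S}, Reduced P l → Lop P t l (δ P 1) = δ P (wp P l)
  | [], _ => rfl
  | s :: l, h => by
    have hl := reduced_tail P h
    have hup : Up P s (wp P l) := by
      unfold Reduced at h hl
      rw [wp_cons, List.length_cons] at h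
      unfold Up
      omega
    show L P t s (Lop P t l (δ P 1)) = _
    rw [Lop_δ_one t hl, L_δ_up P t hup, wp_cons]

/-- A reduced word of an element. -/
noncomputable def rw' (w : W P) : List P.S := (exists_reduced P w).choose

theorem rw'_spec (w : W P) : wp P (rw' P w) = w ∧ Reduced P (rw' P w) := by
  obtain ⟨h1, h2⟩ := (exists_reduced P w).choose_spec
  exact ⟨h1, show len P (wp P (rw' P w)) = (rw' P w).length by
    rw [show rw' P w = (exists_reduced P w).choose from rfl, h1]; exact h2.symm⟩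

theorem Rop_δ_one (t : ℝ) {l : List P.S} (h : Reduced P l) : Rop P t l (δ P 1) = δ P (wp P l)⁻¹ := by
  show iota P (Lop P t l (iota P (δ P 1))) = _
  rw [iota_δ, inv_one, Lop_δ_one P t h, iota_δ]

section
variable [Fintype (W P)]

theorem δ_expand (φ : W P → ℂ) : φ = ∑ w, φ w • δ P w := by
  funext v
  simp only [Finset.sum_apply, Pi.smul_apply, smul_eq_mul, δ_apply]
  rw [Finset.sum_eq_single v]
  · simp
  · intro w _ hw; simp [Ne.symm hw]
  · simp

/-- An operator commuting with the right action is determined by its value at the identity. -/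
theorem ext_one (t : ℝ) {X Y : (W P → ℂ) →ₗ[ℂ] (W P → ℂ)}
    (hX : ∀ u φ, X (R P t u φ) = R P t u (X φ)) (hY : ∀ u φ, Y (R P t u φ) = R P t u (Y φ))
    (h1 : X (δ P 1) = Y (δ P 1)) : X = Y := by
  have key : ∀ l : List P.S, X (Rop P t l (δ P 1)) = Y (Rop P t l (δ P 1)) := by
    intro l
    induction l with
    | nil => rw [Rop_nil]; exact h1
    | cons s l ih => rw [Rop_cons, hX, hY, ih]
  refine LinearMap.ext fun φ => ?_
  rw [δ_expand P φ, map_sum, map_sum]
  refine Finset.sum_congr rfl fun w _ => ?_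
  obtain ⟨h2, h3⟩ := rw'_spec P w⁻¹
  have := key (rw' P w⁻¹)
  rw [Rop_δ_one P t h3, h2, inv_inv] at this
  rw [map_smul, map_smul, this]

/-- The left operator of an element. -/
noncomputable def E (t : ℝ) (w : W P) : (W P → ℂ) →ₗ[ℂ] (W P → ℂ) := Lop P t (rw' P w)

theorem E_δ (t : ℝ) (w : W P) : E P t w (δ P 1) = δ P w := by
  rw [E, Lop_δ_one P t (rw'_spec P w).2, (rw'_spec P w).1]

theorem Lop_eq_E (t : ℝ) {l : List P.S} (hl : Reduced P l) : Lop P t l = E P t (wp P l) :=
  ext_one P t (fun u φ => Lop_R_comm P t u l φ) (fun u φ => Lop_R_comm P t u _ φ)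
    (by rw [Lop_δ_one P t hl, E_δ])

theorem E_one (t : ℝ) : E P t 1 = LinearMap.id := by
  have h : Reduced P ([] : List P.S) := by simp [Reduced, len_one]
  exact (Lop_eq_E P t h).symm

theorem L_E_up (t : ℝ) {s : P.S} {w : W P} (h : Up P s w) (φ : W P → ℂ) :
    L P t s (E P t w φ) = E P t (g P s * w) φ := by
  have hred : Reduced P (s :: rw' P w) := by
    obtain ⟨h1, h2⟩ := rw'_spec P w
    unfold Reduced at h2 ⊢
    rw [wp_cons, h1, List.length_cons, ← h2, h1, len_up P h]
  have := Lop_eq_E P t hred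
  rw [wp_cons, (rw'_spec P w).1] at this
  rw [← this]
  rfl

theorem L_sq (t : ℝ) (s : P.S) (φ : W P → ℂ) :
    L P t s (L P t s φ) = ((t : ℂ) - 1) • L P t s φ + (t : ℂ) • φ := by
  funext w
  simp only [Pi.add_apply, Pi.smul_apply, smul_eq_mul]
  by_cases h : Up P s w
  · rw [L_apply_up P t h, L_apply_down P t (fun e => (up_g_mul P s w).1 e h), L_apply_up P t h,
      g_mul_cancel]
    ring
  · rw [L_apply_down P t h, L_apply_up P t ((up_g_mul P s w).2 h), g_mul_cancel, L_apply_down P t h]
    ring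

theorem L_E_down (t : ℝ) {s : P.S} {w : W P} (h : ¬ Up P s w) (φ : W P → ℂ) :
    L P t s (E P t w φ) = ((t : ℂ) - 1) • E P t w φ + (t : ℂ) • E P t (g P s * w) φ := by
  have e := L_E_up P t ((up_g_mul P s w).2 h) φ
  rw [g_mul_cancel] at e
  rw [← e, L_sq]

/-- The right operator of an element. -/
noncomputable def Gop (t : ℝ) (w : W P) : (W P → ℂ) →ₗ[ℂ] (W P → ℂ) := iota P ∘ₗ E P t w ∘ₗ iota P

theorem Gop_eq (t : ℝ) (w : W P) : Gop P t w = Rop P t (rw' P w) := rfl

theorem R_Gop (t : ℝ) (s : P.S) (w : W P) (φ : W P → ℂ) :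
    R P t s (Gop P t w φ) = iota P (L P t s (E P t w (iota P φ))) := by
  show iota P (L P t s (iota P (iota P (E P t w (iota P φ))))) = _
  rw [iota_iota]

/-- The weight of an element. -/
noncomputable def wt (t : ℝ) (w : W P) : ℂ := ((t : ℂ) ^ len P w)⁻¹

/-- The Casimir operator. -/
noncomputable def Cas (t : ℝ) : (W P → ℂ) →ₗ[ℂ] (W P → ℂ) :=
  ∑ w, wt P t w • (E P t w ∘ₗ Gop P t w)

theorem E_Gop_comm (t : ℝ) (v w : W P) (φ : W P → ℂ) :
    E P t v (Gop P t w φ) = Gop P t w (E P t v φ) := by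
  rw [Gop_eq]; exact Lop_Rop_comm P t _ _ φ

theorem Cas_apply (t : ℝ) (φ : W P → ℂ) :
    Cas P t φ = ∑ w, wt P t w • E P t w (Gop P t w φ) := by
  simp [Cas, LinearMap.sum_apply]

open Classical in
/-- The transition weight. -/
noncomputable def α (t : ℝ) (s : P.S) (w : W P) : ℂ := if Up P s w then 1 else (t : ℂ)

open Classical in
/-- The diagonal weight. -/
noncomputable def β (t : ℝ) (s : P.S) (w : W P) : ℂ := if Up P s w then 0 else (t : ℂ) - 1

theorem L_E (t : ℝ) (s : P.S) (w : W P) (φ : W P → ℂ) :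
    L P t s (E P t w φ) = α P t s w • E P t (g P s * w) φ + β P t s w • E P t w φ := by
  by_cases h : Up P s w
  · rw [L_E_up P t h, α, β, if_pos h, if_pos h, one_smul, zero_smul, add_zero]
  · rw [L_E_down P t h, α, β, if_neg h, if_neg h, add_comm]

/-- The centre. -/
noncomputable def Zc (t : ℝ) : Submodule ℂ (W P → ℂ) :=
  LinearMap.ker (LinearMap.pi fun s : P.S => L P t s - R P t s)

theorem mem_Zc {t : ℝ} {φ : W P → ℂ} : φ ∈ Zc P t ↔ ∀ s, L P t s φ = R P t s φ := by
  rw [Zc, LinearMap.mem_ker, funext_iff]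
  exact forall_congr' fun s => by
    rw [LinearMap.pi_apply, LinearMap.sub_apply, Pi.zero_apply, sub_eq_zero]

theorem Cas_mem (t : ℝ) (ht : t ≠ 0) (φ : W P → ℂ) : Cas P t φ ∈ Zc P t := by
  rw [mem_Zc]
  intro s
  have ht' : (t : ℂ) ≠ 0 := Complex.ofReal_ne_zero.2 ht
  rw [Cas_apply, map_sum, map_sum]
  have hL : ∀ w, L P t s (wt P t w • E P t w (Gop P t w φ)) =
      (wt P t w * α P t s w) • E P t (g P s * w) (Gop P t w φ) +
        (wt P t w * β P t s w) • E P t w (Gop P t w φ) := fun w => by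
    rw [map_smul, L_E, smul_add, smul_smul, smul_smul]
  have hR : ∀ w, R P t s (wt P t w • E P t w (Gop P t w φ)) =
      (wt P t w * α P t s w) • E P t w (Gop P t (g P s * w) φ) +
        (wt P t w * β P t s w) • E P t w (Gop P t w φ) := fun w => by
    rw [map_smul, E_Gop_comm, R_Gop, L_E, map_add, map_smul, map_smul, smul_add, smul_smul, smul_smul]
    rw [E_Gop_comm P t w (g P s * w) φ]
    rfl
  rw [Finset.sum_congr rfl fun w _ => hL w, Finset.sum_congr rfl fun w _ => hR w,
    Finset.sum_add_distrib, Finset.sum_add_distrib]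
  congr 1
  refine Fintype.sum_equiv (Equiv.mulLeft (g P s)) _ _ fun w => ?_
  simp only [Equiv.coe_mulLeft, g_mul_cancel]
  congr 1
  unfold α wt
  by_cases h : Up P s w
  · rw [if_pos h, if_neg (fun e => (up_g_mul P s w).1 e h), len_up P h, pow_succ]
    field_simp
  · have h' := (up_g_mul P s w).2 h
    have e := len_up P h'
    rw [g_mul_cancel] at e
    rw [if_neg h, if_pos h', e, pow_succ]
    field_simp

theorem Rop_of_mem {t : ℝ} {φ : W P → ℂ} (hφ : φ ∈ Zc P t) :
    ∀ l : List P.S, Rop P t l φ = Lop P t l.reverse φ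
  | [] => Rop_nil P t φ
  | s :: l => by
    rw [Rop_cons, Rop_of_mem hφ l, ← Lop_R_comm, ← (mem_Zc P).1 hφ s, List.reverse_cons, Lop_append]
    rfl

theorem Gop_of_mem {t : ℝ} {φ : W P → ℂ} (hφ : φ ∈ Zc P t) (w : W P) :
    Gop P t w φ = E P t w⁻¹ φ := by
  obtain ⟨h1, h2⟩ := rw'_spec P w
  have hr : Reduced P (rw' P w).reverse := by
    unfold Reduced at h2 ⊢
    rw [wp_reverse, len_inv, List.length_reverse]; exact h2
  rw [Gop_eq, Rop_of_mem P hφ, Lop_eq_E P t hr, wp_reverse, h1]

/-- The invariant form. -/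
noncomputable def form (t : ℝ) (φ ψ : W P → ℂ) : ℂ := ∑ w, (t : ℂ) ^ len P w * (φ w * conj (ψ w))

theorem L_adj (t : ℝ) (s : P.S) (φ ψ : W P → ℂ) : form P t (L P t s φ) ψ = form P t φ (L P t s ψ) := by
  classical
  unfold form
  let d : W P → ℂ := fun w => if Up P s w then 0 else (t : ℂ) - 1
  let c : W P → ℂ := fun w => if Up P s w then (t : ℂ) else 1
  have hL : ∀ f w, L P t s f w = c w * f (g P s * w) + d w * f w := fun f w => by
    by_cases h : Up P s w
    · rw [L_apply_up P t h]; simp [c, d, h]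
    · rw [L_apply_down P t h]; simp [c, d, h]
  have hc : ∀ w, conj (c w) = c w := fun w => by by_cases h : Up P s w <;> simp [c, h]
  have hd : ∀ w, conj (d w) = d w := fun w => by by_cases h : Up P s w <;> simp [d, h]
  simp only [hL, map_add, map_mul, hc, hd, add_mul, mul_add, Finset.sum_add_distrib]
  congr 1
  · refine Fintype.sum_equiv (Equiv.mulLeft (g P s)) _ _ fun w => ?_
    simp only [Equiv.coe_mulLeft, g_mul_cancel]
    by_cases h : Up P s w
    · have h' : ¬ Up P s (g P s * w) := fun e => (up_g_mul P s w).1 e h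
      simp only [c, if_pos h, if_neg h', len_up P h, pow_succ]
      ring
    · have h' := (up_g_mul P s w).2 h
      have e := len_up P h'
      rw [g_mul_cancel] at e
      simp only [c, if_neg h, if_pos h', e, pow_succ]
      ring
  · exact Finset.sum_congr rfl fun w _ => by ring

theorem Lop_adj (t : ℝ) : ∀ (l : List P.S) (φ ψ : W P → ℂ),
    form P t (Lop P t l φ) ψ = form P t φ (Lop P t l.reverse ψ)
  | [], _, _ => rfl
  | s :: l, φ, ψ => by
    show form P t (L P t s (Lop P t l φ)) ψ = _
    rw [L_adj, Lop_adj t l, List.reverse_cons, Lop_append]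
    rfl

theorem E_adj (t : ℝ) (w : W P) (φ ψ : W P → ℂ) :
    form P t (E P t w φ) ψ = form P t φ (E P t w⁻¹ ψ) := by
  obtain ⟨h1, h2⟩ := rw'_spec P w
  have hr : Reduced P (rw' P w).reverse := by
    unfold Reduced at h2 ⊢
    rw [wp_reverse, len_inv, List.length_reverse]; exact h2
  have := Lop_eq_E P t hr
  rw [wp_reverse, h1] at this
  rw [E, Lop_adj, this]

theorem Cas_injOn {t : ℝ} (ht : 0 < t) {φ : W P → ℂ} (hφ : φ ∈ Zc P t) (h0 : Cas P t φ = 0) :
    φ = 0 := by
  have key : ∀ ψ : W P → ℂ, form P t ψ ψ = ((∑ w, t ^ len P w * ‖ψ w‖ ^ 2 : ℝ) : ℂ) := fun ψ => by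
    unfold form
    push_cast
    exact Finset.sum_congr rfl fun w _ => by rw [Complex.mul_conj']
  have h1 : form P t (Cas P t φ) φ =
      ((∑ w, (t ^ len P w)⁻¹ * ∑ v, t ^ len P v * ‖E P t w⁻¹ φ v‖ ^ 2 : ℝ) : ℂ) := by
    have hsum : form P t (Cas P t φ) φ = ∑ w, wt P t w * form P t (E P t w (E P t w⁻¹ φ)) φ := by
      rw [Cas_apply]
      unfold form
      simp only [Finset.sum_apply, Pi.smul_apply, smul_eq_mul, Finset.sum_mul, Finset.mul_sum,
        Gop_of_mem P hφ]
      rw [Finset.sum_comm]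
      exact Finset.sum_congr rfl fun w _ => Finset.sum_congr rfl fun v _ => by ring
    rw [hsum, Complex.ofReal_sum]
    refine Finset.sum_congr rfl fun w _ => ?_
    rw [E_adj, key, wt, Complex.ofReal_mul, Complex.ofReal_inv, Complex.ofReal_pow]
  rw [h0, show form P t 0 φ = 0 by simp [form], eq_comm, Complex.ofReal_eq_zero,
    Finset.sum_eq_zero_iff_of_nonneg fun w _ => mul_nonneg (inv_nonneg.2 (pow_nonneg ht.le _))
      (Finset.sum_nonneg fun v _ => mul_nonneg (pow_nonneg ht.le _) (sq_nonneg _))] at h1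
  have h2 := h1 1 (Finset.mem_univ _)
  rw [len_one, pow_zero, inv_one, one_mul, inv_one, E_one,
    Finset.sum_eq_zero_iff_of_nonneg fun v _ => mul_nonneg (pow_nonneg ht.le _) (sq_nonneg _)] at h2
  funext v
  have h3 := h2 v (Finset.mem_univ _)
  rcases mul_eq_zero.1 h3 with e | e
  · exact absurd e (pow_ne_zero _ ht.ne')
  · simpa using pow_eq_zero_iff (n := 2) two_ne_zero |>.1 e

/-- The image of the Casimir operator is the centre. -/
theorem range_Cas {t : ℝ} (ht : 0 < t) : LinearMap.range (Cas P t) = Zc P t := by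
  refine le_antisymm ?_ fun φ hφ => ?_
  · rintro _ ⟨φ, rfl⟩
    exact Cas_mem P t ht.ne' φ
  · let f : Zc P t →ₗ[ℂ] Zc P t := (Cas P t).restrict fun φ _ => Cas_mem P t ht.ne' φ
    have hinj : Function.Injective f := (injective_iff_map_eq_zero f).2 fun x hx =>
      Subtype.ext (Cas_injOn P ht x.2 (congrArg Subtype.val hx))
    obtain ⟨ψ, hψ⟩ := LinearMap.surjective_of_injective hinj ⟨φ, hφ⟩
    exact ⟨ψ.1, congrArg Subtype.val hψ⟩

end

section Continuity

theorem eventually_rank_ge {V U : Type*} [AddCommGroup V] [Module ℂ V] [NormedAddCommGroup U]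
    [NormedSpace ℂ U] [FiniteDimensional ℂ U] (f : ℝ → V →ₗ[ℂ] U) {t₀ : ℝ}
    (hf : ∀ v, ContinuousAt (fun t => f t v) t₀) :
    ∀ᶠ t in nhds t₀, Module.finrank ℂ (LinearMap.range (f t₀)) ≤ Module.finrank ℂ (LinearMap.range (f t)) := by
  let b := Module.finBasis ℂ (LinearMap.range (f t₀))
  choose v hv using fun i => (b i).2
  have hli : LinearIndependent ℂ fun i => f t₀ (v i) := by
    simp only [hv]
    exact b.linearIndependent.map' _ (Submodule.ker_subtype _)
  have hc : ContinuousAt (fun t => fun i => f t (v i)) t₀ := continuousAt_pi.2 fun i => hf (v i)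
  filter_upwards [hc.eventually (isOpen_setOf_linearIndependent.mem_nhds hli)] with t ht
  have h : LinearIndependent ℂ fun i => (⟨f t (v i), LinearMap.mem_range_self _ _⟩ : LinearMap.range (f t)) :=
    LinearIndependent.of_comp (LinearMap.range (f t)).subtype ht
  simpa using h.fintype_card_le_finrank

variable [Fintype (W P)]

theorem continuousAt_L (s : P.S) {f : ℝ → W P → ℂ} {t₀ : ℝ} (hf : ContinuousAt f t₀) :
    ContinuousAt (fun t => L P t s (f t)) t₀ := by
  refine continuousAt_pi.2 fun w => ?_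
  have hw : ∀ v, ContinuousAt (fun t => f t v) t₀ := continuousAt_pi.1 hf
  have ht : ContinuousAt (fun t : ℝ => (t : ℂ)) t₀ := Complex.continuous_ofReal.continuousAt
  by_cases h : Up P s w
  · simp only [L_apply_up P _ h]
    exact ht.mul (hw _)
  · simp only [L_apply_down P _ h]
    exact (hw _).add ((ht.sub continuousAt_const).mul (hw _))

theorem continuousAt_Lop : ∀ (l : List P.S) {f : ℝ → W P → ℂ} {t₀ : ℝ}, ContinuousAt f t₀ →
    ContinuousAt (fun t => Lop P t l (f t)) t₀
  | [], _, _, hf => hf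
  | s :: l, _, _, hf => continuousAt_L P s (continuousAt_Lop l hf)

theorem continuousAt_iota {f : ℝ → W P → ℂ} {t₀ : ℝ} (hf : ContinuousAt f t₀) :
    ContinuousAt (fun t => iota P (f t)) t₀ :=
  continuousAt_pi.2 fun w => continuousAt_pi.1 hf w⁻¹

theorem continuousAt_Cas {t₀ : ℝ} (ht : t₀ ≠ 0) (φ : W P → ℂ) :
    ContinuousAt (fun t => Cas P t φ) t₀ := by
  refine continuousAt_pi.2 fun v => ?_
  simp only [Cas_apply, Finset.sum_apply, Pi.smul_apply, smul_eq_mul]
  refine tendsto_finsetSum _ fun w _ => ?_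
  refine ContinuousAt.mul ?_ (continuousAt_pi.1 ?_ v)
  · exact ((Complex.continuous_ofReal.continuousAt).pow _).inv₀
      (pow_ne_zero _ (Complex.ofReal_ne_zero.2 ht))
  · exact continuousAt_Lop P _ (continuousAt_iota P (continuousAt_Lop P _ (continuousAt_iota P continuousAt_const)))

/-- The dimension of the centre does not depend on a positive parameter. -/
theorem finrank_Zc_eq [Finite P.S] {t : ℝ} (ht : 0 < t) :
    Module.finrank ℂ (Zc P t) = Module.finrank ℂ (Zc P 1) := by
  haveI := Fintype.ofFinite P.S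
  let d : ℝ → ℕ := fun t => Module.finrank ℂ (Zc P t)
  have hloc : ∀ x ∈ Set.Ioi (0 : ℝ), d =ᶠ[nhdsWithin x (Set.Ioi 0)] fun _ => d x := by
    intro x hx
    have h1 := eventually_rank_ge (fun t => Cas P t) (t₀ := x) (fun φ => continuousAt_Cas P (ne_of_gt hx) φ)
    have h2 := eventually_rank_ge
      (fun t => LinearMap.pi fun s : P.S => L P t s - R P t s) (t₀ := x) (fun φ => by
        refine continuousAt_pi.2 fun s => ?_
        show ContinuousAt (fun t => L P t s φ - R P t s φ) x
        exact (continuousAt_L P s continuousAt_const).sub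
          (continuousAt_iota P (continuousAt_L P s (continuousAt_iota P continuousAt_const))))
    filter_upwards [h1.filter_mono nhdsWithin_le_nhds, h2.filter_mono nhdsWithin_le_nhds,
      self_mem_nhdsWithin] with y hy1 hy2 hy3
    rw [range_Cas P hx, range_Cas P hy3] at hy1
    have e1 := LinearMap.finrank_range_add_finrank_ker (LinearMap.pi fun s : P.S => L P x s - R P x s)
    have e2 := LinearMap.finrank_range_add_finrank_ker (LinearMap.pi fun s : P.S => L P y s - R P y s)
    show Module.finrank ℂ (Zc P y) = Module.finrank ℂ (Zc P x)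
    have f1 : Module.finrank ℂ (LinearMap.range (LinearMap.pi fun s : P.S => L P x s - R P x s)) +
        Module.finrank ℂ (Zc P x) = Module.finrank ℂ (W P → ℂ) := e1
    have f2 : Module.finrank ℂ (LinearMap.range (LinearMap.pi fun s : P.S => L P y s - R P y s)) +
        Module.finrank ℂ (Zc P y) = Module.finrank ℂ (W P → ℂ) := e2
    omega
  have hc : ContinuousOn d (Set.Ioi (0 : ℝ)) := fun x hx =>
    (continuousWithinAt_const (b := d x)).congr_of_eventuallyEq (hloc x hx) rfl
  exact (convex_Ioi (0 : ℝ)).isPreconnected.constant hc ht (Set.mem_Ioi.2 one_pos)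

/-- At parameter one the centre consists of the class functions. -/
theorem finrank_Zc_one : Module.finrank ℂ (Zc P 1) = Nat.card (ConjClasses (W P)) := by
  classical
  haveI : Fintype (ConjClasses (W P)) := Fintype.ofFinite _
  have hL : ∀ (s : P.S) (φ : W P → ℂ) w, L P 1 s φ w = φ (g P s * w) := fun s φ w => by
    by_cases h : Up P s w
    · rw [L_apply_up P 1 h]; simp
    · rw [L_apply_down P 1 h]; simp
  have hR : ∀ (s : P.S) (φ : W P → ℂ) w, R P 1 s φ w = φ (w * g P s) := fun s φ w => by
    show L P 1 s (iota P φ) w⁻¹ = _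
    rw [hL, iota_apply, inv_g_mul]
  have hconj : ∀ φ ∈ Zc P 1, ∀ a b : W P, φ (b * a * b⁻¹) = φ a := by
    intro φ hφ
    have hstep : ∀ s a, φ (g P s * a * g P s) = φ a := fun s a => by
      have := congrFun ((mem_Zc P).1 hφ s) (a * g P s)
      rw [hL, hR, mul_g_cancel, ← mul_assoc] at this
      exact this
    intro a b
    obtain ⟨l, rfl⟩ := exists_word P b
    induction l with
    | nil => simp
    | cons s l ih =>
      rw [wp_cons, mul_inv_rev, g_inv, show g P s * wp P l * a * ((wp P l)⁻¹ * g P s) =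
        g P s * (wp P l * a * (wp P l)⁻¹) * g P s by group, hstep, ih]
  let e : (ConjClasses (W P) → ℂ) →ₗ[ℂ] Zc P 1 :=
    { toFun := fun f => ⟨fun w => f (ConjClasses.mk w), (mem_Zc P).2 fun s => funext fun w => by
        rw [hL, hR]
        show f (ConjClasses.mk _) = f (ConjClasses.mk _)
        refine congrArg f (ConjClasses.mk_eq_mk_iff_isConj.2 (isConj_iff.2 ⟨g P s, ?_⟩))
        rw [← mul_assoc, g_mul_self, one_mul, g_inv]⟩
      map_add' := fun _ _ => rfl
      map_smul' := fun _ _ => rfl }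
  have he : Function.Bijective e := by
    constructor
    · intro f f' hff
      funext c
      obtain ⟨w, rfl⟩ := ConjClasses.mk_surjective c
      exact congrFun (congrArg Subtype.val hff) w
    · rintro ⟨φ, hφ⟩
      refine ⟨Quotient.lift φ fun a b hab => ?_, rfl⟩
      obtain ⟨c, hc⟩ := isConj_iff.1 hab
      rw [← hc, hconj φ hφ]
  rw [← (LinearEquiv.ofBijective e he).finrank_eq, Module.finrank_fintype_fun_eq_card,
    Nat.card_eq_fintype_card]

end Continuity

end Cfsg.Agent.BN.HeckeC
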